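import Mathlib.RingTheory.Flat.Basic
import Mathlib.RingTheory.Ideal.Maps
import Mathlib.RingTheory.RingHom.Flat

/-!
# Conormal modules under base change, algebra
-/

set_option autoImplicit false

universe u v w

open scoped TensorProduct

namespace GrothLib.ConStalk4

variable {A B C : Type u} [CommRing A] [CommRing B] [CommRing C] (τ : A →+* B) (π : B →+* C) (K' : Ideal A)
  {M : Type v} [AddCommGroup M] [Module C M] {N : Type w} [AddCommGroup N] [Module C N]
  (u : K' →+ M) (v : ↥(K'.map τ) →+ N) (f : M →ₗ[C] N)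

theorem surjective_of_map (hv : Function.Surjective v)
    (hvs : ∀ (b : B) (x : ↥(K'.map τ)), v (b • x) = π b • v x)
    (hf : ∀ l : K', f (u l) = v ⟨τ l, Ideal.mem_map_of_mem τ l.2⟩) : Function.Surjective f := by
  intro e
  obtain ⟨⟨x, hx⟩, rfl⟩ := hv e
  suffices H : ∀ y ∈ K'.map τ, ∃ hy : y ∈ K'.map τ, v ⟨y, hy⟩ ∈ LinearMap.range f from (H x hx).2
  intro y hy
  refine Submodule.span_induction (p := fun y _ => ∃ hy : y ∈ K'.map τ, v ⟨y, hy⟩ ∈ LinearMap.range f)
    ?_ ?_ ?_ ?_ hy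
  · rintro _ ⟨l, hl, rfl⟩
    exact ⟨_, u ⟨l, hl⟩, hf ⟨l, hl⟩⟩
  · refine ⟨zero_mem _, ?_⟩
    have e : v (⟨0, zero_mem _⟩ : ↥(K'.map τ)) = 0 := v.map_zero
    exact e.symm ▸ zero_mem _
  · rintro a b - - ⟨ha, ha'⟩ ⟨hb, hb'⟩
    refine ⟨add_mem ha hb, ?_⟩
    have e := v.map_add ⟨a, ha⟩ ⟨b, hb⟩
    exact (congrArg (· ∈ LinearMap.range f) e).mpr (add_mem ha' hb')
  · rintro c a - ⟨ha, ha'⟩
    refine ⟨Submodule.smul_mem _ c ha, ?_⟩
    exact (congrArg (· ∈ LinearMap.range f) (hvs c ⟨a, ha⟩)).mpr (Submodule.smul_mem _ _ ha')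

theorem injective_of_flat (hτ : τ.Flat) (hπ : Function.Surjective π)
    (hus : ∀ (a : A) (l : K'), u (a • l) = π (τ a) • u l) (hu0 : ∀ l : K', (l : A) ∈ K' ^ 2 → u l = 0)
    (hspan : ∀ m : M, m ∈ Submodule.span C (Set.range u))
    (hvs : ∀ (b : B) (x : ↥(K'.map τ)), v (b • x) = π b • v x)
    (hv0 : ∀ x : ↥(K'.map τ), v x = 0 → (x : B) ∈ (K'.map τ) ^ 2)
    (hf : ∀ l : K', f (u l) = v ⟨τ l, Ideal.mem_map_of_mem τ l.2⟩) : Function.Injective f := by
  letI : Algebra A B := τ.toAlgebra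
  haveI : Module.Flat A B := hτ
  let Λ : B ⊗[A] K' →+ M := TensorProduct.liftAddHom
    (AddMonoidHom.mk' (fun b => AddMonoidHom.mk' (fun l => π b • u l)
      (fun l l' => by rw [map_add, smul_add]))
      (fun b b' => by ext l; exact (congrArg (· • u l) (map_add π b b')).trans (add_smul _ _ _)))
    (fun a b l => by
      show π (τ a * b) • u l = π b • u (a • l)
      rw [hus, smul_smul, map_mul, mul_comm])
  have hΛ : ∀ b l, Λ (b ⊗ₜ l) = π b • u l := fun b l => TensorProduct.liftAddHom_tmul _ _ b l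
  let μ : B ⊗[A] K' →ₗ[A] B := (TensorProduct.rid A B).toLinearMap.comp ((K'.subtype).lTensor B)
  have hμ : ∀ b (l : K'), μ (b ⊗ₜ l) = τ l * b := fun b l => rfl
  have hμi : Function.Injective μ := (TensorProduct.rid A B).injective.comp
    (Module.Flat.lTensor_preserves_injective_linearMap _ K'.injective_subtype)
  have key : ∀ x, ∃ h : μ x ∈ K'.map τ, f (Λ x) = v ⟨μ x, h⟩ := by
    intro x
    induction x with
    | zero =>
      refine ⟨by rw [map_zero]; exact zero_mem _, ?_⟩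
      rw [map_zero, map_zero]
      exact ((congrArg v (Subtype.ext (map_zero μ) : (⟨μ 0, _⟩ : ↥(K'.map τ)) = 0)).trans v.map_zero).symm
    | tmul b l =>
      refine ⟨by rw [hμ]; exact Ideal.mul_mem_right _ _ (Ideal.mem_map_of_mem τ l.2), ?_⟩
      rw [hΛ, map_smul, hf, ← hvs]
      exact congrArg v (Subtype.ext ((mul_comm _ _).trans (hμ b l).symm))
    | add x y hx hy =>
      obtain ⟨hx, hx'⟩ := hx
      obtain ⟨hy, hy'⟩ := hy
      refine ⟨by rw [map_add]; exact add_mem hx hy, ?_⟩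
      rw [map_add, map_add, hx', hy', ← v.map_add]
      exact congrArg v (Subtype.ext (map_add μ x y).symm)
  have hsur : ∀ m : M, ∃ x, Λ x = m := by
    intro m
    refine Submodule.span_induction (p := fun m _ => ∃ x, Λ x = m) ?_ ⟨0, map_zero _⟩ ?_ ?_ (hspan m)
    · rintro _ ⟨l, rfl⟩
      exact ⟨(1 : B) ⊗ₜ l, by rw [hΛ, map_one, one_smul]⟩
    · rintro a b - - ⟨x, rfl⟩ ⟨y, rfl⟩
      exact ⟨x + y, map_add _ _ _⟩
    · rintro c a - ⟨x, rfl⟩
      obtain ⟨b, rfl⟩ := hπ c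
      refine ⟨b • x, ?_⟩
      induction x with
      | zero => rw [smul_zero, map_zero, smul_zero]
      | tmul b' l =>
        rw [TensorProduct.smul_tmul', hΛ, hΛ, smul_smul, ← map_mul]
        rfl
      | add x y hx hy => rw [smul_add, map_add, hx, hy, map_add, smul_add]
  have hsq : ∀ y ∈ (K' ^ 2).map τ, ∃ x, μ x = y ∧ Λ x = 0 := by
    intro y hy
    refine Submodule.span_induction (p := fun y _ => ∃ x, μ x = y ∧ Λ x = 0) ?_
      ⟨0, map_zero _, map_zero _⟩ ?_ ?_ hy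
    · rintro _ ⟨q, hq, rfl⟩
      have hqK : q ∈ K' := Ideal.pow_le_self two_ne_zero hq
      refine ⟨(1 : B) ⊗ₜ ⟨q, hqK⟩, (hμ _ _).trans (mul_one _), ?_⟩
      rw [hΛ, hu0 ⟨q, hqK⟩ hq, smul_zero]
    · rintro a b - - ⟨x, rfl, hx⟩ ⟨y, rfl, hy⟩
      exact ⟨x + y, map_add _ _ _, by rw [map_add, hx, hy, add_zero]⟩
    · rintro c _ - ⟨x, rfl, hx⟩
      refine ⟨c • x, ?_, ?_⟩
      · clear hx
        induction x with
        | zero => rw [smul_zero, map_zero, smul_zero]
        | tmul b' l =>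
          rw [TensorProduct.smul_tmul', hμ, hμ]
          exact (mul_left_comm (τ l) c b')
        | add x y hx hy => rw [smul_add, map_add, hx, hy, map_add, smul_add]
      · have h2 : Λ (c • x) = π c • Λ x := by
          clear hx
          induction x with
          | zero => rw [smul_zero, map_zero, smul_zero]
          | tmul b' l =>
            rw [TensorProduct.smul_tmul', hΛ, hΛ, smul_smul, ← map_mul]
            rfl
          | add x y hx hy => rw [smul_add, map_add, hx, hy, map_add, smul_add]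
        rw [h2, hx, smul_zero]
  refine (injective_iff_map_eq_zero _).2 fun m hm => ?_
  obtain ⟨x, rfl⟩ := hsur m
  obtain ⟨h, hx⟩ := key x
  have h2 := hv0 _ (hx.symm.trans hm)
  rw [← Ideal.map_pow] at h2
  obtain ⟨x', hx', hΛ'⟩ := hsq _ h2
  rw [hμi hx'] at hΛ'
  exact hΛ'

end GrothLib.ConStalk4
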