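import Groth.Agent.Lib.ConStalk4.Stalk
import Groth.Prelude.Def_Omega4

/-!
# Functoriality of the conormal sheaf
-/

set_option autoImplicit false
set_option linter.style.haveILetI false
set_option backward.isDefEq.respectTransparency false
set_option maxHeartbeats 1000000

universe u

open CategoryTheory CategoryTheory.Limits AlgebraicGeometry Opposite TopologicalSpace
open GrothLib
open GrothLib.IdealModSec (val)
open GrothLib.InvExt (mres fres)

noncomputable section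

namespace GrothLib.ConStalk4

variable {Z X Z' X' : Scheme.{u}} {i : Z ⟶ X} {i' : Z' ⟶ X'} {g : X ⟶ X'} {gZ : Z ⟶ Z'}
  (hsq : gZ ≫ i' = i ≫ g)

include hsq

theorem preimage_sq_le (U : X'.Opens) : gZ ⁻¹ᵁ (i' ⁻¹ᵁ U) ≤ i ⁻¹ᵁ (g ⁻¹ᵁ U) :=
  le_of_eq (by rw [← Scheme.Hom.comp_preimage, hsq, Scheme.Hom.comp_preimage])

theorem app_app_sq (U : X'.Opens) (a : Γ(X', U)) :
    fres Z (preimage_sq_le hsq U) (i.app (g ⁻¹ᵁ U) (g.app U a)) = gZ.app (i' ⁻¹ᵁ U) (i'.app U a) := by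
  have key : ∀ (q : Z ⟶ X') (_ : gZ ≫ i' = q) (e : (gZ ≫ i') ⁻¹ᵁ U ≤ q ⁻¹ᵁ U),
      fres Z e (q.app U a) = (gZ ≫ i').app U a := by
    rintro q rfl e
    exact InvExt.fres_self _
  exact key (i ≫ g) hsq _

theorem app_val_sq (U : X'.Opens) (m : Γ(ClSub.idealMod i'.ker, U)) :
    i.app (g ⁻¹ᵁ U) (g.app U (val i'.ker U m)) = 0 := by
  have key : ∀ (q : Z ⟶ X') (_ : gZ ≫ i' = q), q.app U (val i'.ker U m) = 0 := by
    rintro q rfl
    show gZ.app _ (i'.app U (val i'.ker U m)) = 0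
    rw [H1Sheaf6.app_val_eq_zero, map_zero]
  exact key (i ≫ g) hsq

variable [QuasiCompact i]

/-- The class of `g♯ m`. -/
def sqCls (U : X'.Opens) (m : Γ(ClSub.idealMod i'.ker, U)) : Γ(Omega.conormal i, gZ ⁻¹ᵁ (i' ⁻¹ᵁ U)) :=
  mres (Omega.conormal i) (preimage_sq_le hsq U) (OmegaSh.conormalSect i (g ⁻¹ᵁ U)
    (exists_val_of_app_eq_zero i (g ⁻¹ᵁ U) _ (app_val_sq hsq U m)).choose)

theorem sqCls_eq (U : X'.Opens) (m : Γ(ClSub.idealMod i'.ker, U)) (s : Γ(ClSub.idealMod i.ker, g ⁻¹ᵁ U))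
    (hs : val i.ker _ s = g.app U (val i'.ker U m)) :
    sqCls hsq U m = mres (Omega.conormal i) (preimage_sq_le hsq U) (OmegaSh.conormalSect i (g ⁻¹ᵁ U) s) := by
  have : (exists_val_of_app_eq_zero i (g ⁻¹ᵁ U) _ (app_val_sq hsq U m)).choose = s :=
    IdealModSec.val_injective i.ker _
      ((exists_val_of_app_eq_zero i (g ⁻¹ᵁ U) _ (app_val_sq hsq U m)).choose_spec.trans hs.symm)
  rw [sqCls, this]

theorem sqCls_add (U : X'.Opens) (m n : Γ(ClSub.idealMod i'.ker, U)) :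
    sqCls hsq U (m + n) = sqCls hsq U m + sqCls hsq U n := by
  obtain ⟨s, hs⟩ := exists_val_of_app_eq_zero i _ _ (app_val_sq hsq U m)
  obtain ⟨t, ht⟩ := exists_val_of_app_eq_zero i _ _ (app_val_sq hsq U n)
  rw [sqCls_eq hsq U m s hs, sqCls_eq hsq U n t ht, sqCls_eq hsq U (m + n) (s + t) (by
    show (ClSub.idealModι i.ker).app _ (s + t) = g.app U ((ClSub.idealModι i'.ker).app U (m + n))
    rw [map_add, map_add, map_add]
    exact congrArg₂ (· + ·) hs ht)]
  show (Omega.conormal i).presheaf.map _ (OmegaSh.conormalSect i _ (s + t)) = _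
  rw [map_add, map_add]

theorem sqCls_smul (U : X'.Opens) (a : Γ(X', U)) (m : Γ(ClSub.idealMod i'.ker, U)) :
    sqCls hsq U (a • m) = gZ.app (i' ⁻¹ᵁ U) (i'.app U a) • sqCls hsq U m := by
  obtain ⟨s, hs⟩ := exists_val_of_app_eq_zero i _ _ (app_val_sq hsq U m)
  rw [sqCls_eq hsq U m s hs, sqCls_eq hsq U (a • m) (g.app U a • s) (by
    rw [IdealModSec.val_smul, IdealModSec.val_smul, map_mul, hs])]
  show mres (Omega.conormal i) _ (OmegaSh.pullSect i (ClSub.idealMod i.ker) _ (g.app U a • s)) = _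
  rw [OmegaSh.pullSect_smul]
  exact (InvExt.mres_smul (Omega.conormal i) _ _ _).trans (congrArg (· • _) (app_app_sq hsq U a))

theorem sqCls_res {U V : X'.Opens} (h : V ≤ U) (m : Γ(ClSub.idealMod i'.ker, U)) :
    sqCls hsq V (mres (ClSub.idealMod i'.ker) h m) =
      mres (Omega.conormal i) (gZ.preimage_mono (i'.preimage_mono h)) (sqCls hsq U m) := by
  obtain ⟨s, hs⟩ := exists_val_of_app_eq_zero i _ _ (app_val_sq hsq U m)
  rw [sqCls_eq hsq U m s hs, sqCls_eq hsq V _ (mres (ClSub.idealMod i.ker) (g.preimage_mono h) s) (by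
    rw [IdealModSec.val_mres, IdealModSec.val_mres, hs]
    exact (congr($(g.naturality (homOfLE h).op) (val i'.ker U m))).symm), InvExt.mres_mres]
  show mres _ _ (OmegaSh.pullSect i (ClSub.idealMod i.ker) _ ((ClSub.idealMod i.ker).presheaf.map _ s)) = _
  rw [OmegaSh.pullSect_map i (ClSub.idealMod i.ker) (g.preimage_mono h) s]
  exact InvExt.mres_mres (Omega.conormal i) _ _ _

/-- The map on ideals. -/
def sqIdeal : ClSub.idealMod i'.ker ⟶
    (Scheme.Modules.pushforward i').obj ((Scheme.Modules.pushforward gZ).obj (Omega.conormal i)) :=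
  ⟨{ app := fun U => ModuleCat.ofHom (X := (ClSub.idealMod i'.ker).val.obj U)
        (Y := ((Scheme.Modules.pushforward i').obj ((Scheme.Modules.pushforward gZ).obj (Omega.conormal i))).val.obj U)
        { toFun := fun m => sqCls hsq U.unop m
          map_add' := fun m n => sqCls_add hsq U.unop m n
          map_smul' := fun a m => sqCls_smul hsq U.unop a m }
     naturality := fun {U V} h => by
        ext m
        exact sqCls_res hsq h.unop.le m }⟩

/-- The map of conormal sheaves of a square. -/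
def sqHom : (Scheme.Modules.pullback gZ).obj (Omega.conormal i') ⟶ Omega.conormal i :=
  ((Scheme.Modules.pullbackPushforwardAdjunction gZ).homEquiv _ _).symm
    (((Scheme.Modules.pullbackPushforwardAdjunction i').homEquiv _ _).symm (sqIdeal hsq))

theorem sqHom_app (U : X'.Opens) (m : Γ(ClSub.idealMod i'.ker, U)) :
    (sqHom hsq).app (gZ ⁻¹ᵁ (i' ⁻¹ᵁ U))
      (OmegaSh.pullSect gZ (Omega.conormal i') (i' ⁻¹ᵁ U) (OmegaSh.conormalSect i' U m)) = sqCls hsq U m := by
  let adj := Scheme.Modules.pullbackPushforwardAdjunction gZ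
  let adj' := Scheme.Modules.pullbackPushforwardAdjunction i'
  refine (congr($((adj.homEquiv_unit _ _ (sqHom hsq)).symm.trans (Equiv.apply_symm_apply (adj.homEquiv _ _) _)).app
    (i' ⁻¹ᵁ U) (OmegaSh.conormalSect i' U m))).trans ?_
  exact congr($((adj'.homEquiv_unit _ _ ((adj'.homEquiv _ _).symm (sqIdeal hsq))).symm.trans
    (Equiv.apply_symm_apply (adj'.homEquiv _ _) _)).app U m)

theorem existsUnique : ∃! φ : (Scheme.Modules.pullback gZ).obj (Omega.conormal i') ⟶ Omega.conormal i,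
    OmegaSh.IsConormalMap i i' g gZ φ := by
  refine ⟨sqHom hsq, ⟨hsq, fun U m s hs V h₁ h₂ => ?_⟩, fun φ hφ => ?_⟩
  · rw [sqHom_app, sqCls_eq hsq U m s hs]
    exact InvExt.mres_mres (Omega.conormal i) _ _ _
  · let adj := Scheme.Modules.pullbackPushforwardAdjunction gZ
    refine (adj.homEquiv _ _).injective (PPGen.hom_ext_pullSect i' (M := ClSub.idealMod i'.ker)
      (G := (Scheme.Modules.pushforward gZ).obj (Omega.conormal i)) _ _ fun U m => ?_)
    refine (congr($(adj.homEquiv_unit _ _ φ).app (i' ⁻¹ᵁ U) (OmegaSh.conormalSect i' U m))).trans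
      (Eq.trans ?_ (congr($(adj.homEquiv_unit _ _ (sqHom hsq)).app (i' ⁻¹ᵁ U) (OmegaSh.conormalSect i' U m))).symm)
    show φ.app (gZ ⁻¹ᵁ (i' ⁻¹ᵁ U))
        (OmegaSh.pullSect gZ (Omega.conormal i') (i' ⁻¹ᵁ U) (OmegaSh.conormalSect i' U m)) =
      (sqHom hsq).app (gZ ⁻¹ᵁ (i' ⁻¹ᵁ U))
        (OmegaSh.pullSect gZ (Omega.conormal i') (i' ⁻¹ᵁ U) (OmegaSh.conormalSect i' U m))
    obtain ⟨s, hs⟩ := exists_val_of_app_eq_zero i _ _ (app_val_sq hsq U m)
    rw [sqHom_app, sqCls_eq hsq U m s hs]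
    exact (InvExt.mres_self (Omega.conormal i) _).symm.trans
      (hφ.2 U m s hs (gZ ⁻¹ᵁ (i' ⁻¹ᵁ U)) le_rfl (preimage_sq_le hsq U))

end GrothLib.ConStalk4
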