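import Groth.Agent.Lib.ConStalk4.Maps
import Groth.Agent.Lib.ConStalk4.Functorial
import Groth.Agent.Lib.ConStalk4.AlgBaseChange
import Groth.Agent.Lib.RelReg.FibreLift
import Groth.Agent.Lib.RegSeqLoc.Immersion
import Mathlib.AlgebraicGeometry.Morphisms.Flat

/-!
# The conormal sheaf under base change
-/

set_option autoImplicit false
set_option linter.style.haveILetI false
set_option backward.isDefEq.respectTransparency false
set_option maxHeartbeats 1000000

universe u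

open CategoryTheory CategoryTheory.Limits AlgebraicGeometry Opposite TopologicalSpace
open scoped TensorProduct
open GrothLib GrothLib.OmegaUniv
open GrothLib.IdealModSec (val)

noncomputable section

namespace GrothLib.ConStalk4

attribute [local instance] OmegaUniv.stalkAlg

variable {Z X Z' X' : Scheme.{u}} {i : Z ⟶ X} {i' : Z' ⟶ X'} [IsImmersion i] [IsImmersion i']
  [QuasiCompact i] [QuasiCompact i'] {g : X ⟶ X'} {gZ : Z ⟶ Z'}

section

variable (hsq : gZ ≫ i' = i ≫ g) (z : Z)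

/-- The map of local rings of the square. -/
def sqStalk : X'.presheaf.stalk (i' (gZ z)) →+* X.presheaf.stalk (i z) :=
  ((X'.presheaf.stalkCongr (.of_eq (show i' (gZ z) = g (i z) by
      rw [← Scheme.Hom.comp_apply, hsq, Scheme.Hom.comp_apply]))).hom ≫ g.stalkMap (i z)).hom

omit [IsImmersion i] [IsImmersion i'] [QuasiCompact i] [QuasiCompact i'] in
theorem sqStalk_germ (U : X'.Opens) (hU : i' (gZ z) ∈ U) (a : Γ(X', U)) :
    sqStalk hsq z (X'.presheaf.germ U (i' (gZ z)) hU a) =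
      X.presheaf.germ (g ⁻¹ᵁ U) (i z) (show g (i z) ∈ U by
        rw [← Scheme.Hom.comp_apply, ← hsq, Scheme.Hom.comp_apply]; exact hU) (g.app U a) := by
  show (g.stalkMap (i z)).hom ((X'.presheaf.stalkCongr _).hom (X'.presheaf.germ U _ hU a)) = _
  rw [TopCat.Presheaf.stalkCongr_hom, TopCat.Presheaf.germ_stalkSpecializes_apply]
  exact Scheme.Hom.germ_stalkMap_apply g U (i z) _ a

omit [IsImmersion i] [IsImmersion i'] [QuasiCompact i] [QuasiCompact i'] in
theorem stalkMap_sqStalk (a : X'.presheaf.stalk (i' (gZ z))) :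
    (i.stalkMap z).hom (sqStalk hsq z a) = (gZ.stalkMap z).hom ((i'.stalkMap (gZ z)).hom a) := by
  obtain ⟨U, hU, b, rfl⟩ := X'.presheaf.exists_germ_eq a
  rw [sqStalk_germ hsq z U hU b]
  refine (Scheme.Hom.germ_stalkMap_apply i (g ⁻¹ᵁ U) z _ _).trans ?_
  refine Eq.trans ?_ ((congrArg (gZ.stalkMap z).hom (Scheme.Hom.germ_stalkMap_apply i' U (gZ z) hU b)).trans
    (Scheme.Hom.germ_stalkMap_apply gZ (i' ⁻¹ᵁ U) z hU _)).symm
  rw [← app_app_sq hsq U b]
  exact (Z.presheaf.germ_res_apply (homOfLE (preimage_sq_le hsq U)) z hU _).symm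

omit [IsImmersion i] [IsImmersion i'] [QuasiCompact i] [QuasiCompact i'] in
theorem flat_sqStalk [Flat g] : (sqStalk hsq z).Flat := by
  show ((g.stalkMap (i z)).hom.comp _).Flat
  exact RingHom.Flat.comp (RingHom.Flat.of_bijective (ConcreteCategory.bijective_of_isIso _))
    (Flat.stalkMap g (i z))

/-- The element `1 ⊗ cls l`. -/
def pullCls : K i' (gZ z) →+ St z ((Scheme.Modules.pullback gZ).obj (Omega.conormal i')) where
  toFun l := (pullEquiv gZ z (Omega.conormal i')).symm ((1 : Z.presheaf.stalk z) ⊗ₜ cls i' (gZ z) l)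
  map_zero' := by rw [map_zero, TensorProduct.tmul_zero, map_zero]
  map_add' l l' := by rw [map_add, TensorProduct.tmul_add, map_add]

theorem pullCls_smul (a : X'.presheaf.stalk (i' (gZ z))) (l : K i' (gZ z)) :
    pullCls (gZ := gZ) z (a • l) = (i.stalkMap z).hom (sqStalk hsq z a) • pullCls (gZ := gZ) z l := by
  show (pullEquiv gZ z (Omega.conormal i')).symm (_ ⊗ₜ cls i' (gZ z) (a • l)) =
    _ • (pullEquiv gZ z (Omega.conormal i')).symm ((1 : Z.presheaf.stalk z) ⊗ₜ cls i' (gZ z) l)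
  rw [stalkMap_sqStalk hsq z a, cls_smul, TensorProduct.tmul_smul, ← algebraMap_smul (Z.presheaf.stalk z)
    ((i'.stalkMap (gZ z)).hom a), map_smul]
  rfl

theorem span_pullCls (m : St z ((Scheme.Modules.pullback gZ).obj (Omega.conormal i'))) :
    m ∈ Submodule.span (Z.presheaf.stalk z) (Set.range (pullCls (i' := i') (gZ := gZ) z)) := by
  obtain ⟨t, rfl⟩ := (pullEquiv gZ z (Omega.conormal i')).symm.surjective m
  induction t with
  | zero => rw [map_zero]; exact zero_mem _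
  | tmul c e =>
    obtain ⟨l, rfl⟩ := cls_surjective i' (gZ z) e
    have h : c ⊗ₜ[Z'.presheaf.stalk (gZ z)] cls i' (gZ z) l = c • ((1 : Z.presheaf.stalk z) ⊗ₜ cls i' (gZ z) l) := by
      rw [TensorProduct.smul_tmul', smul_eq_mul, mul_one]
    rw [h, map_smul]
    exact Submodule.smul_mem _ c (Submodule.subset_span ⟨l, rfl⟩)
  | add x y hx hy => rw [map_add]; exact add_mem hx hy

theorem stalkLin_pullCls (φ : (Scheme.Modules.pullback gZ).obj (Omega.conormal i') ⟶ Omega.conormal i)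
    (hφ : OmegaSh.IsConormalMap i i' g gZ φ) (l : K i' (gZ z)) :
    ∃ h : sqStalk hsq z l ∈ K i z, stalkLin z φ (pullCls (gZ := gZ) z l) = cls i z ⟨_, h⟩ := by
  have h : sqStalk hsq z l ∈ K i z := by
    show (i.stalkMap z).hom _ = 0
    rw [stalkMap_sqStalk hsq z]
    exact (congrArg (gZ.stalkMap z).hom l.2).trans (map_zero _)
  refine ⟨h, ?_⟩
  obtain ⟨U, hU, m, hm⟩ := OX.germ_exists _ ((idealStalkEquiv i' (gZ z)).symm l)
  have hval : X'.presheaf.germ U (i' (gZ z)) hU (val i'.ker U m) = (l : X'.presheaf.stalk (i' (gZ z))) := by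
    rw [← vLin_germ i' (gZ z) U hU m, hm]
    exact congrArg Subtype.val ((idealStalkEquiv i' (gZ z)).apply_symm_apply l)
  obtain ⟨b, hb⟩ := l
  subst hval
  have hU' : z ∈ gZ ⁻¹ᵁ (i' ⁻¹ᵁ U) := hU
  have hz : i z ∈ g ⁻¹ᵁ U := preimage_sq_le hsq U hU'
  have he : pullCls (gZ := gZ) z ⟨_, hb⟩ = OX.germ (DCoh.toP.obj ((Scheme.Modules.pullback gZ).obj (Omega.conormal i')))
      (gZ ⁻¹ᵁ (i' ⁻¹ᵁ U)) hU' (OmegaSh.pullSect gZ (Omega.conormal i') (i' ⁻¹ᵁ U) (OmegaSh.conormalSect i' U m)) := by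
    show (pullEquiv gZ z (Omega.conormal i')).symm _ = _
    rw [LinearEquiv.symm_apply_eq, cls_germ]
    exact (OX.pullStalkIso_germ gZ z (Omega.conormal i') (i' ⁻¹ᵁ U) hU' _).symm
  obtain ⟨s, hs⟩ := exists_val_of_app_eq_zero i _ _ (app_val_sq hsq U m)
  refine (congrArg (stalkLin z φ) he).trans ?_
  refine (stalkLin_germ z φ (gZ ⁻¹ᵁ (i' ⁻¹ᵁ U)) hU' _).trans ?_
  refine (congrArg (OX.germ (DCoh.toP.obj (Omega.conormal i)) (gZ ⁻¹ᵁ (i' ⁻¹ᵁ U)) hU')
    ((InvExt.mres_self (Omega.conormal i) (V := gZ ⁻¹ᵁ (i' ⁻¹ᵁ U)) _).symm.trans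
      (hφ.2 U m s hs (gZ ⁻¹ᵁ (i' ⁻¹ᵁ U)) le_rfl (preimage_sq_le hsq U)))).trans ?_
  refine (OX.germ_map (DCoh.toP.obj (Omega.conormal i)) (homOfLE (preimage_sq_le hsq U)) hU' _).trans ?_
  have hsK : X.presheaf.germ (g ⁻¹ᵁ U) (i z) hz (val i.ker _ s) ∈ K i z :=
    H1Sheaf6.stalkMap_germ_val i _ s z hz
  rw [← cls_germ i z (g ⁻¹ᵁ U) hz s hsK]
  refine congrArg _ (Subtype.ext ?_)
  show X.presheaf.germ (g ⁻¹ᵁ U) (i z) hz (val i.ker _ s) = sqStalk hsq z _
  rw [hs]
  exact (sqStalk_germ hsq z U hU _).symm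

end

variable (hp : IsPullback i gZ g i') (φ : (Scheme.Modules.pullback gZ).obj (Omega.conormal i') ⟶ Omega.conormal i)
  (hφ : OmegaSh.IsConormalMap i i' g gZ φ)

include hp

omit [QuasiCompact i] [QuasiCompact i'] [IsImmersion i] in
theorem K_eq_map (z : Z) : K i z = (K i' (gZ z)).map (sqStalk hp.w.symm z) := by
  obtain ⟨U, hzU, hci⟩ := RegSeqLoc.exists_affine_isClosedImmersion i' (gZ z)
  exact RelReg.ker_stalkMap_of_isPullback hp.flip U hci (gZ z) hzU z
    (by rw [← Scheme.Hom.comp_apply, hp.w, Scheme.Hom.comp_apply])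

include hφ

/-- The class map on the extended ideal. -/
def mapCls (z : Z) : ↥((K i' (gZ z)).map (sqStalk hp.w.symm z)) →+ St z (Omega.conormal i) :=
  (cls i z).comp (AddMonoidHom.mk' (fun x => (⟨x.1, (K_eq_map hp z).ge x.2⟩ : K i z)) (fun _ _ => rfl))

theorem baseChange_stalk (z : Z) :
    Function.Surjective (stalkLin z φ) ∧ (Flat g → Function.Injective (stalkLin z φ)) := by
  have hvs : ∀ (b : X.presheaf.stalk (i z)) (x : ↥((K i' (gZ z)).map (sqStalk hp.w.symm z))),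
      mapCls hp z (b • x) = (i.stalkMap z).hom b • mapCls hp z x := fun b x =>
    cls_smul i z b ⟨x.1, (K_eq_map hp z).ge x.2⟩
  have hf : ∀ l : K i' (gZ z), stalkLin z φ (pullCls (gZ := gZ) z l) =
      mapCls hp z ⟨sqStalk hp.w.symm z l, Ideal.mem_map_of_mem _ l.2⟩ := fun l => by
    obtain ⟨h, he⟩ := stalkLin_pullCls hp.w.symm z φ hφ l
    exact he
  constructor
  · refine surjective_of_map (sqStalk hp.w.symm z) (i.stalkMap z).hom (K i' (gZ z)) (pullCls (gZ := gZ) z)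
      (mapCls hp z) (stalkLin z φ) ?_ hvs hf
    intro e
    obtain ⟨k, rfl⟩ := cls_surjective i z e
    exact ⟨⟨k.1, (K_eq_map hp z).le k.2⟩, rfl⟩
  · intro _
    refine injective_of_flat (sqStalk hp.w.symm z) (i.stalkMap z).hom (K i' (gZ z)) (pullCls (gZ := gZ) z)
      (mapCls hp z) (stalkLin z φ) (flat_sqStalk hp.w.symm z) (i.stalkMap_surjective z)
      (pullCls_smul hp.w.symm z) ?_ (span_pullCls z) hvs ?_ hf
    · intro l hl
      show (pullEquiv gZ z (Omega.conormal i')).symm (_ ⊗ₜ cls i' (gZ z) l) = 0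
      rw [(cls_eq_zero_iff i' (gZ z) l).2 hl, TensorProduct.tmul_zero, map_zero]
    · intro x hx
      exact SetLike.le_def.1 (congrArg (· ^ 2) (K_eq_map hp z)).le ((cls_eq_zero_iff i z _).1 hx)

theorem epi_of_isPullback : Epi φ := by
  rw [OX.epi_iff]
  intro z
  rw [ModuleCat.epi_iff_surjective]
  exact (baseChange_stalk hp φ hφ z).1

theorem isIso_of_flat [Flat g] : IsIso φ := by
  haveI := epi_of_isPullback hp φ hφ
  haveI : Mono φ := by
    rw [OX.mono_iff]
    intro z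
    rw [ModuleCat.mono_iff_injective]
    exact (baseChange_stalk hp φ hφ z).2 inferInstance
  exact isIso_of_mono_of_epi φ

end GrothLib.ConStalk4
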