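import Groth.Agent.Lib.ConStalk4.VirtualDim
import Groth.Agent.Lib.LCI6.Koszul
import Groth.Agent.Lib.CMMor6.Chart
import Groth.Agent.Lib.FibreDim5.Basic
import Groth.Agent.Lib.AlgSp.FibreDimZero
import Groth.Agent.S8656
import Groth.Agent.S8905
import Groth.Agent.S8919
import Groth.Agent.S4992
import Mathlib.AlgebraicGeometry.AffineSpace

/-!
# The virtual relative dimension of a composite
-/

set_option autoImplicit false
set_option linter.style.haveILetI false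
set_option backward.isDefEq.respectTransparency false
set_option maxHeartbeats 1000000

universe u

open CategoryTheory CategoryTheory.Limits AlgebraicGeometry Opposite TopologicalSpace
open GrothLib

noncomputable section

namespace GrothLib.ConStalk4

/-- A finite type morphism of affine schemes factors through a closed immersion in affine space. -/
theorem exists_closedImmersion_affineSpace {X A : Scheme.{u}} [IsAffine X] [IsAffine A] (q : X ⟶ A)
    [LocallyOfFiniteType q] :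
    ∃ (n : ℕ) (e : X ⟶ 𝔸(ULift.{u} (Fin n); A)), IsClosedImmersion e ∧ e ≫ 𝔸(ULift.{u} (Fin n); A) ↘ A = q := by
  have hq : q.appTop.hom.FiniteType := HasRingHomProperty.appTop @LocallyOfFiniteType q inferInstance
  letI := q.appTop.hom.toAlgebra
  haveI : Algebra.FiniteType Γ(A, ⊤) Γ(X, ⊤) := hq
  obtain ⟨n, φ, hφ⟩ := Algebra.FiniteType.iff_quotient_mvPolynomial''.1 ‹Algebra.FiniteType Γ(A, ⊤) Γ(X, ⊤)›
  let e := AffineSpace.homOfVector q (fun i : ULift.{u} (Fin n) => φ (MvPolynomial.X i.down))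
  refine ⟨n, e, ?_, AffineSpace.homOfVector_over _ _⟩
  refine IsClosedImmersion.of_surjective_of_isAffine e fun t => ?_
  obtain ⟨p, rfl⟩ := hφ t
  induction p using MvPolynomial.induction_on with
  | C a =>
    refine ⟨(𝔸(ULift.{u} (Fin n); A) ↘ A).appTop a, ?_⟩
    rw [show φ (MvPolynomial.C a) = q.appTop a from φ.commutes a, ← CommRingCat.comp_apply,
      ← Scheme.Hom.comp_appTop, AffineSpace.homOfVector_over]
  | add p r hp hr =>
    obtain ⟨a, ha⟩ := hp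
    obtain ⟨b, hb⟩ := hr
    exact ⟨a + b, by rw [map_add, map_add, ha, hb]⟩
  | mul_X p i hp =>
    obtain ⟨a, ha⟩ := hp
    refine ⟨a * AffineSpace.coord A (ULift.up i), ?_⟩
    rw [map_mul, map_mul, ha]
    exact congrArg (φ p * ·) (AffineSpace.homOfVector_appTop_coord q (fun i : ULift.{u} (Fin n) => φ (MvPolynomial.X i.down)) (ULift.up i))

theorem smooth_affineSpace (n : Type u) [Finite n] (A : Scheme.{u}) [IsAffine A] : Smooth (𝔸(n; A) ↘ A) := by
  rw [← MorphismProperty.cancel_left_of_respectsIso @Smooth (AffineSpace.isoOfIsAffine n A).inv,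
    show (AffineSpace.isoOfIsAffine n A).inv ≫ 𝔸(n; A) ↘ A = Spec.map (CommRingCat.ofHom MvPolynomial.C) ≫ A.isoSpec.inv
      from AffineSpace.homOfVector_over _ _,
    MorphismProperty.cancel_right_of_respectsIso @Smooth, HasRingHomProperty.Spec_iff (P := @Smooth)]
  show RingHom.Smooth (algebraMap Γ(A, ⊤) (MvPolynomial n Γ(A, ⊤)))
  exact RingHom.smooth_algebraMap.mpr ⟨inferInstance, inferInstance⟩

/-- An immersion closed over an open piece. -/
theorem exists_open_piece {X T : Scheme.{u}} (i : X ⟶ T) [IsClosedImmersion i] (X₀ : X.Opens) :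
    ∃ (O : T.Opens) (j : (X₀ : Scheme.{u}) ⟶ (O : Scheme.{u})), IsClosedImmersion j ∧
      IsPullback j X₀.ι O.ι i := by
  obtain ⟨O, hO, hOe⟩ := i.isEmbedding.isInducing.isOpen_iff.1 X₀.2
  have heq : X₀ = i ⁻¹ᵁ ⟨O, hO⟩ := Opens.ext hOe.symm
  haveI : IsClosedImmersion (i ∣_ ⟨O, hO⟩) := IsZariskiLocalAtTarget.restrict ‹IsClosedImmersion i› _
  exact ⟨⟨O, hO⟩, (X.isoOfEq heq).hom ≫ i ∣_ ⟨O, hO⟩, inferInstance,
    (isPullback_morphismRestrict i ⟨O, hO⟩).of_iso (X.isoOfEq heq).symm (Iso.refl _) (Iso.refl _) (Iso.refl _)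
      (by simp) (by simp) (by simp) (by simp)⟩

variable {X Y Z V W T : Scheme.{u}}

theorem comp_add {f : X ⟶ Y} {g : Y ⟶ Z} (hf : ∀ x : X, Synt.IsKoszulAt f x)
    (gf : V ⟶ Y) [Smooth gf] (jf : X ⟶ V) [IsClosedImmersion jf] (hjf : jf ≫ gf = f)
    (gg : W ⟶ Z) [Smooth gg] (jg : Y ⟶ W) [IsClosedImmersion jg] (hjg : jg ≫ gg = g)
    (gh : T ⟶ Z) [Smooth gh] (jh : X ⟶ T) [IsClosedImmersion jh] (hjh : jh ≫ gh = f ≫ g)
    (x : X) (af bf ag bg ah bh : ℕ) (hbf : RankAt (Omega.conormal jf) x bf)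
    (hbg : RankAt (Omega.conormal jg) (f x) bg) (hbh : RankAt (Omega.conormal jh) x bh)
    (haf : FlatMor.fibreDimAt gf (jf x) = (af : WithBot ℕ∞))
    (hag : FlatMor.fibreDimAt gg (jg (f x)) = (ag : WithBot ℕ∞))
    (hah : FlatMor.fibreDimAt gh (jh x) = (ah : WithBot ℕ∞)) :
    ah + bg + bf = bh + ag + af := by
  have hfx : gf (jf x) = f x := by rw [← Scheme.Hom.comp_apply, hjf]
  obtain ⟨W₀, hW₀, hxW, -⟩ := exists_isAffineOpen_mem_and_subset (x := jg (f x)) (U := (⊤ : W.Opens)) trivial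
  let A : Y.Opens := jg ⁻¹ᵁ W₀
  have hA : IsAffineOpen A := hW₀.preimage jg
  haveI : IsAffine (A : Scheme.{u}) := hA
  haveI : IsAffine (W₀ : Scheme.{u}) := hW₀
  have hxA : gf (jf x) ∈ A := by rw [hfx]; exact hxW
  obtain ⟨V₀, hV₀, hxV, hVA⟩ := exists_isAffineOpen_mem_and_subset (x := jf x) (U := gf ⁻¹ᵁ A) hxA
  haveI : IsAffine (V₀ : Scheme.{u}) := hV₀
  let X₀ : X.Opens := jf ⁻¹ᵁ V₀
  let j₀ : (X₀ : Scheme.{u}) ⟶ (V₀ : Scheme.{u}) := jf ∣_ V₀
  haveI : IsClosedImmersion j₀ := IsZariskiLocalAtTarget.restrict ‹IsClosedImmersion jf› V₀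
  let j₁ : (A : Scheme.{u}) ⟶ (W₀ : Scheme.{u}) := jg ∣_ W₀
  haveI : IsClosedImmersion j₁ := IsZariskiLocalAtTarget.restrict ‹IsClosedImmersion jg› W₀
  let q : (V₀ : Scheme.{u}) ⟶ (A : Scheme.{u}) := gf.resLE A V₀ hVA
  haveI : Smooth q := inferInstanceAs (Smooth (gf.resLE A V₀ hVA))
  obtain ⟨m, e, he, heq⟩ := exists_closedImmersion_affineSpace q
  haveI := he
  let P := 𝔸(ULift.{u} (Fin m); (A : Scheme.{u}))
  let π : P ⟶ (A : Scheme.{u}) := P ↘ (A : Scheme.{u})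
  let P' := 𝔸(ULift.{u} (Fin m); (W₀ : Scheme.{u}))
  let π' : P' ⟶ (W₀ : Scheme.{u}) := P' ↘ (W₀ : Scheme.{u})
  haveI : Smooth π := smooth_affineSpace _ _
  haveI : Smooth π' := smooth_affineSpace _ _
  let M : P ⟶ P' := AffineSpace.map _ j₁
  have hM : IsPullback M π π' j₁ := AffineSpace.isPullback_map j₁
  haveI : IsClosedImmersion M := MorphismProperty.of_isPullback (P := @IsClosedImmersion) hM.flip ‹IsClosedImmersion j₁›
  let k : (X₀ : Scheme.{u}) ⟶ P := j₀ ≫ e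
  haveI : IsClosedImmersion k := inferInstanceAs (IsClosedImmersion (j₀ ≫ e))
  let x₀ : (X₀ : Scheme.{u}) := ⟨x, hxV⟩
  -- `k` is regular
  have hkπ : k ≫ π = j₀ ≫ q := by
    show (j₀ ≫ e) ≫ π = _
    rw [Category.assoc, heq]
  have hq : q ≫ A.ι = V₀.ι ≫ gf := Scheme.Hom.resLE_comp_ι gf hVA
  have hkf : k ≫ (π ≫ A.ι) = X₀.ι ≫ f := by
    rw [reassoc_of% hkπ, hq, morphismRestrict_ι_assoc, hjf]
  have hk : RegImm.IsRegularImmersion .koszul k := by
    refine Groth.Agent.S8656.result (X₀.ι ≫ f) (fun y => ?_) (π ≫ A.ι) k hkf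
    rw [LCI6.isKoszulAt_iff_inLocus]
    exact LCI6.inLocus_comp (LCI6.inLocus_of_smooth X₀.ι y) ((LCI6.isKoszulAt_iff_inLocus f _).1 (hf _))
  have hk1 := ((Groth.Agent.S8905.result k).2.1) hk
  -- the conormal sequence of `k` and `M`
  obtain ⟨a, ha, -⟩ := existsUnique (i := k ≫ M) (i' := M) (g := 𝟙 P') (gZ := k) (Category.comp_id _).symm
  obtain ⟨b, hb, -⟩ := existsUnique (i := k) (i' := k ≫ M) (g := M) (gZ := 𝟙 _) (Category.id_comp _)
  obtain ⟨hw, hS, hfree⟩ := Groth.Agent.S8919.result k M a ha b hb hk1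
  obtain ⟨bk, hbk⟩ := rankAt_of_isFinLocFree hfree x₀
  -- ranks
  have hMr : RankAt (Omega.conormal M) (k x₀) bg := by
    have h1 : RankAt (Omega.conormal j₁) (π (k x₀)) bg := by
      refine rankAt_conormal_of_isPullback (isPullback_morphismRestrict jg W₀) ?_
      have : A.ι (π (k x₀)) = f x := by
        rw [← Scheme.Hom.comp_apply, ← Scheme.Hom.comp_apply, ← Category.assoc, hkπ, Category.assoc, hq,
          morphismRestrict_ι_assoc, hjf, Scheme.Hom.comp_apply]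
        rfl
      rw [this]
      exact hbg
    obtain ⟨φ, hφ, -⟩ := existsUnique (i := M) (i' := j₁) (g := π') (gZ := π) hM.w.symm
    haveI := isIso_of_flat hM φ hφ
    exact RankAt.iso (RankAt.pullback π h1) (asIso φ)
  have hc : RankAt (Omega.conormal (k ≫ M)) x₀ (bg + bk) :=
    RankAt.ext (hS hw) (RankAt.pullback k hMr) hbk
  -- the fibre dimensions
  have hm : FlatMor.fibreDimAt π (k x₀) = (m : WithBot ℕ∞) := CMMor6.fibreDimAt_affineSpace m _
  have hm' : FlatMor.fibreDimAt π' ((k ≫ M) x₀) = (m : WithBot ℕ∞) := CMMor6.fibreDimAt_affineSpace m _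
  have hq' : FlatMor.fibreDimAt (V₀.ι ≫ gf) (j₀ x₀) = (af : WithBot ℕ∞) := by
    rw [CMMor6.fibreDimAt_comp_flat_lqf V₀.ι gf, ← Scheme.Hom.comp_apply, morphismRestrict_ι, Scheme.Hom.comp_apply]
    exact haf
  have hπA : FlatMor.fibreDimAt (π ≫ A.ι) (k x₀) = (m : WithBot ℕ∞) := by
    rw [Groth.Agent.S4992.result π A.ι, hm]
    have h0 : FlatMor.fibreDimAt A.ι (π (k x₀)) = 0 :=
      le_antisymm ((AlgSp.quasiFiniteAt_iff_fibreDimAt A.ι _).1 (A.ι.quasiFiniteAt _)) (FibreDim5.nonneg_fibreDimAt A.ι _)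
    rw [h0, add_zero]
  have e₁ := add_eq_add_of_two' (X := (X₀ : Scheme.{u})) (V₀.ι ≫ gf) (π ≫ A.ι) j₀ k
    (by rw [hkf, morphismRestrict_ι_assoc, hjf]) x₀ bf bk af m
    (rankAt_conormal_of_isPullback (isPullback_morphismRestrict jf V₀) hbf) hbk hq' hπA
  obtain ⟨O, jO, hjO, hP⟩ := exists_open_piece jh X₀
  haveI := hjO
  have hπg : FlatMor.fibreDimAt (π' ≫ W₀.ι ≫ gg) ((k ≫ M) x₀) = ((m + ag : ℕ) : WithBot ℕ∞) := by
    rw [Groth.Agent.S4992.result π' (W₀.ι ≫ gg), hm', CMMor6.fibreDimAt_comp_flat_lqf W₀.ι gg, Nat.cast_add]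
    refine congrArg _ (Eq.trans (congrArg _ ?_) hag)
    rw [← Scheme.Hom.comp_apply, ← Scheme.Hom.comp_apply, ← hjf]
    show ((k ≫ M) ≫ π' ≫ W₀.ι) x₀ = (X₀.ι ≫ (jf ≫ gf) ≫ jg) x₀
    rw [Category.assoc, hM.w_assoc, morphismRestrict_ι, ← Category.assoc π, ← Category.assoc k, hkf, hjf]
    simp
  have hhO : FlatMor.fibreDimAt (O.ι ≫ gh) (jO x₀) = (ah : WithBot ℕ∞) := by
    rw [CMMor6.fibreDimAt_comp_flat_lqf O.ι gh, ← Scheme.Hom.comp_apply, hP.w, Scheme.Hom.comp_apply]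
    exact hah
  have hfg : (k ≫ M) ≫ π' ≫ W₀.ι ≫ gg = jO ≫ O.ι ≫ gh := by
    rw [reassoc_of% hP.w, hjh, Category.assoc, hM.w_assoc, morphismRestrict_ι_assoc, hjg,
      ← Category.assoc π, ← Category.assoc k, hkf, Category.assoc]
  have e₂ := add_eq_add_of_two' (X := (X₀ : Scheme.{u})) (π' ≫ W₀.ι ≫ gg) (O.ι ≫ gh) (k ≫ M) jO hfg x₀
    (bg + bk) bh (m + ag) ah hc (rankAt_conormal_of_isPullback hP hbh) hπg hhO
  omega

end GrothLib.ConStalk4
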