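import Groth.Agent.Lib.ConStalk4.Stalk

/-!
# The canonical maps of the conormal–differentials sequence on stalks
-/

set_option autoImplicit false
set_option linter.style.haveILetI false
set_option backward.isDefEq.respectTransparency false
set_option maxHeartbeats 1000000

universe u

open CategoryTheory CategoryTheory.Limits AlgebraicGeometry Opposite TopologicalSpace
open scoped TensorProduct
open GrothLib GrothLib.OmegaUniv
open GrothLib.IdealModSec (val)

noncomputable section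

namespace GrothLib.ConStalk4

variable {X Y Z : Scheme.{u}} (p : X ⟶ Y) (i : Z ⟶ X) (z : Z)

attribute [local instance] OmegaUniv.stalkAlg

variable {p} {Ω : X.Modules} {d : OmegaSh.Der p Ω}

/-- The stalk of a pullback as a base change. -/
def pullEquiv (M : X.Modules) : St z ((Scheme.Modules.pullback i).obj M) ≃ₗ[Z.presheaf.stalk z]
    Z.presheaf.stalk z ⊗[X.presheaf.stalk (i z)] St (i z) M :=
  ((OX.pullStalkIso i z).app M).toLinearEquiv

/-- The stalk of a pulled back sheaf of differentials. -/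
def omegaEquiv (hd : OmegaSh.IsUniversal d) : St z ((Scheme.Modules.pullback i).obj Ω) ≃ₗ[Z.presheaf.stalk z]
    Z.presheaf.stalk z ⊗[X.presheaf.stalk (i z)] Kah p (i z) :=
  pullEquiv i z Ω ≪≫ₗ
    TensorProduct.AlgebraTensorModule.congr (LinearEquiv.refl (Z.presheaf.stalk z) (Z.presheaf.stalk z))
      (stalkEquiv (i z) hd)

theorem omegaEquiv_germ (hd : OmegaSh.IsUniversal d) (U : X.Opens) (hU : i z ∈ U) (s : Γ(X, U)) :
    omegaEquiv i z hd (OX.germ (DCoh.toP.obj ((Scheme.Modules.pullback i).obj Ω)) (i ⁻¹ᵁ U) hU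
      (OmegaSh.pullSect i Ω U (d.app U s))) =
      (1 : Z.presheaf.stalk z) ⊗ₜ KaehlerDifferential.D (Y.presheaf.stalk (p (i z))) (X.presheaf.stalk (i z))
        (X.presheaf.germ U (i z) hU s) := by
  have he : pullEquiv i z Ω (OX.germ (DCoh.toP.obj ((Scheme.Modules.pullback i).obj Ω)) (i ⁻¹ᵁ U) hU
      (OmegaSh.pullSect i Ω U (d.app U s))) = (1 : Z.presheaf.stalk z) ⊗ₜ[X.presheaf.stalk (i z)] dg d U hU s :=
    OX.pullStalkIso_germ i z Ω U hU (d.app U s)
  refine (congrArg (TensorProduct.AlgebraTensorModule.congr (LinearEquiv.refl (Z.presheaf.stalk z) (Z.presheaf.stalk z))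
    (stalkEquiv (i z) hd)) he).trans ?_
  show (1 : Z.presheaf.stalk z) ⊗ₜ stalkEquiv (i z) hd (dg d U hU s) = _
  rw [stalkEquiv_dg]

variable [IsImmersion i] [QuasiCompact i]

/-- `C_{Z/X} → i^*Ω` on stalks is `k ↦ 1 ⊗ D k`. -/
theorem omegaEquiv_conormalDiff (hd : OmegaSh.IsUniversal d)
    (φ : Omega.conormal i ⟶ (Scheme.Modules.pullback i).obj Ω) (hφ : OmegaSh.IsConormalDiff i d φ) (k : K i z) :
    omegaEquiv i z hd (stalkLin z φ (cls i z k)) =
      (1 : Z.presheaf.stalk z) ⊗ₜ KaehlerDifferential.D (Y.presheaf.stalk (p (i z))) (X.presheaf.stalk (i z))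
        (k : X.presheaf.stalk (i z)) := by
  obtain ⟨U, hU, m, hm⟩ := OX.germ_exists _ ((idealStalkEquiv i z).symm k)
  have hval : X.presheaf.germ U (i z) hU (val i.ker U m) = (k : X.presheaf.stalk (i z)) := by
    rw [← vLin_germ i z U hU m, hm]
    exact congrArg Subtype.val ((idealStalkEquiv i z).apply_symm_apply k)
  obtain ⟨b, hb⟩ := k
  subst hval
  rw [cls_germ, stalkLin_germ, hφ U m]
  exact omegaEquiv_germ i z hd U hU _

/-- Injectivity of `C_{Z/X} → i^*Ω` on stalks, from that of `k ↦ 1 ⊗ D k` modulo the square. -/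
theorem stalkLin_conormalDiff_injective (hd : OmegaSh.IsUniversal d)
    (φ : Omega.conormal i ⟶ (Scheme.Modules.pullback i).obj Ω) (hφ : OmegaSh.IsConormalDiff i d φ)
    (h : ∀ k ∈ K i z, (1 : Z.presheaf.stalk z) ⊗ₜ[X.presheaf.stalk (i z)]
      KaehlerDifferential.D (Y.presheaf.stalk (p (i z))) (X.presheaf.stalk (i z)) k = 0 → k ∈ K i z ^ 2) :
    Function.Injective (stalkLin z φ) := by
  refine (injective_iff_map_eq_zero _).2 fun e he => ?_
  obtain ⟨k, rfl⟩ := cls_surjective i z e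
  refine (cls_eq_zero_iff i z k).2 (h _ k.2 ?_)
  rw [← omegaEquiv_conormalDiff i z hd φ hφ k, he, map_zero]

theorem stalkMap_comp_apply (a : Y.presheaf.stalk ((i ≫ p) z)) :
    ((i ≫ p).stalkMap z).hom a = (i.stalkMap z).hom ((p.stalkMap (i z)).hom a) := by
  rw [Scheme.Hom.stalkMap_comp]
  rfl

variable (p)
variable [IsImmersion (i ≫ p)] [QuasiCompact (i ≫ p)]

/-- `p♯` on the kernels of the maps of local rings. -/
def kerLift (l : K (i ≫ p) z) : K i z :=
  ⟨(p.stalkMap (i z)).hom (l : Y.presheaf.stalk ((i ≫ p) z)), (stalkMap_comp_apply i z (l : Y.presheaf.stalk ((i ≫ p) z))).symm.trans l.2⟩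

/-- `C_{Z/Y} → C_{Z/X}` on sections. -/
theorem conormalMap_app
    (ψ : (Scheme.Modules.pullback (𝟙 Z)).obj (Omega.conormal (i ≫ p)) ⟶ Omega.conormal i)
    (hψ : OmegaSh.IsConormalMap i (i ≫ p) p (𝟙 Z) ψ) (U : Y.Opens) (m : Γ(ClSub.idealMod (i ≫ p).ker, U)) :
    ∃ s : Γ(ClSub.idealMod i.ker, p ⁻¹ᵁ U), val i.ker _ s = p.app U (val (i ≫ p).ker U m) ∧
      ((Scheme.Modules.pullbackId Z).inv.app (Omega.conormal (i ≫ p)) ≫ ψ).app ((i ≫ p) ⁻¹ᵁ U)
          (OmegaSh.conormalSect (i ≫ p) U m) = OmegaSh.conormalSect i (p ⁻¹ᵁ U) s := by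
  obtain ⟨s, hs⟩ := exists_val_of_app_eq_zero i (p ⁻¹ᵁ U) (p.app U (val (i ≫ p).ker U m)) (by
    have h := H1Sheaf6.app_val_eq_zero (i ≫ p) U m
    rw [Scheme.Hom.comp_app] at h
    exact h)
  refine ⟨s, hs, ?_⟩
  have h := hψ.2 U m s hs ((i ≫ p) ⁻¹ᵁ U) le_rfl le_rfl
  show ψ.app _ (((Scheme.Modules.pullbackId Z).inv.app (Omega.conormal (i ≫ p))).app _
    (OmegaSh.conormalSect (i ≫ p) U m)) = _
  rw [PPGen.pullbackId_inv_app]
  exact (InvExt.mres_self (Omega.conormal i) (V := (i ≫ p) ⁻¹ᵁ U) _).symm.trans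
    (h.trans (InvExt.mres_self (Omega.conormal i) (V := i ⁻¹ᵁ (p ⁻¹ᵁ U)) _))

/-- `C_{Z/Y} → C_{Z/X}` on stalks is induced by `p♯`. -/
theorem stalkLin_conormalMap_cls
    (ψ : (Scheme.Modules.pullback (𝟙 Z)).obj (Omega.conormal (i ≫ p)) ⟶ Omega.conormal i)
    (hψ : OmegaSh.IsConormalMap i (i ≫ p) p (𝟙 Z) ψ) (l : K (i ≫ p) z) :
    stalkLin z ((Scheme.Modules.pullbackId Z).inv.app (Omega.conormal (i ≫ p)) ≫ ψ) (cls (i ≫ p) z l) =
      cls i z (kerLift p i z l) := by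
  obtain ⟨U, hU, m, hm⟩ := OX.germ_exists _ ((idealStalkEquiv (i ≫ p) z).symm l)
  have hval : Y.presheaf.germ U ((i ≫ p) z) hU (val (i ≫ p).ker U m) = (l : Y.presheaf.stalk ((i ≫ p) z)) := by
    rw [← vLin_germ (i ≫ p) z U hU m, hm]
    exact congrArg Subtype.val ((idealStalkEquiv (i ≫ p) z).apply_symm_apply l)
  obtain ⟨b, hb⟩ := l
  subst hval
  obtain ⟨s, hs, hψs⟩ := conormalMap_app p i ψ hψ U m
  refine (congrArg _ (cls_germ (i ≫ p) z U hU m hb)).trans ?_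
  refine (stalkLin_germ z _ ((i ≫ p) ⁻¹ᵁ U) hU (OmegaSh.conormalSect (i ≫ p) U m)).trans ?_
  refine (congrArg (OX.germ (DCoh.toP.obj (Omega.conormal i)) ((i ≫ p) ⁻¹ᵁ U) hU) hψs).trans ?_
  have hk : X.presheaf.germ (p ⁻¹ᵁ U) (i z) hU (val i.ker _ s) =
      (kerLift p i z ⟨_, hb⟩ : X.presheaf.stalk (i z)) := by
    rw [hs]
    exact (Scheme.Hom.germ_stalkMap_apply p U (i z) hU _).symm
  rw [show kerLift p i z ⟨_, hb⟩ = (⟨_, hk ▸ (kerLift p i z ⟨_, hb⟩).2⟩ : K i z) from Subtype.ext hk.symm]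
  exact (cls_germ i z (p ⁻¹ᵁ U) hU s _).symm

end GrothLib.ConStalk4
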