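import Groth.Agent.Lib.K0Sub.LocFree
import Groth.Agent.Lib.K0Sub.RankNilp
import Groth.Agent.Lib.Euler.RankAdd
import Groth.Agent.Lib.OX.OneDegLocus
import Groth.Agent.Lib.Ref1.Frame
import Groth.Agent.Lib.FinCov.Frame

/-!
# Rank at a point
-/

set_option autoImplicit false
set_option backward.isDefEq.respectTransparency false

universe u

open CategoryTheory CategoryTheory.Limits AlgebraicGeometry TopologicalSpace
open GrothLib

noncomputable section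

namespace GrothLib.ConStalk4

variable {X Y : Scheme.{u}}

/-- Free of rank `n` near `x`. -/
def RankAt (M : X.Modules) (x : X) (n : ℕ) : Prop :=
  ∃ U : X.Opens, x ∈ U ∧ Nonempty (M.restrict U.ι ≅ FlatMod.freeMod (↑U) n)

theorem RankAt.iso {M N : X.Modules} {x : X} {n : ℕ} (h : RankAt M x n) (e : M ≅ N) : RankAt N x n := by
  obtain ⟨U, hx, ⟨i⟩⟩ := h
  exact ⟨U, hx, ⟨((Scheme.Modules.restrictFunctor U.ι).mapIso e).symm ≪≫ i⟩⟩

theorem RankAt.pullback (f : Y ⟶ X) {M : X.Modules} {y : Y} {n : ℕ} (h : RankAt M (f y) n) :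
    RankAt ((Scheme.Modules.pullback f).obj M) y n := by
  obtain ⟨U, hx, ⟨i⟩⟩ := h
  exact ⟨f ⁻¹ᵁ U, hx, ⟨(OX.pullSquareIso f U).app M ≪≫ (Scheme.Modules.pullback (f ∣_ U)).mapIso i ≪≫
    OX.pullFreeModIso _ n⟩⟩

theorem RankAt.unique {M : X.Modules} {x : X} {n r : ℕ} (h : RankAt M x n) (h' : RankAt M x r) : n = r := by
  obtain ⟨U, hx, ⟨i⟩⟩ := h
  obtain ⟨U', hx', ⟨i'⟩⟩ := h'
  obtain ⟨e, he⟩ := FinCov.exists_frame_of_iso i
  obtain ⟨e', he'⟩ := FinCov.exists_frame_of_iso i'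
  have ht : x ∈ U.ι ''ᵁ ⊤ := by rw [Scheme.Opens.ι_image_top]; exact hx
  have ht' : x ∈ U'.ι ''ᵁ ⊤ := by rw [Scheme.Opens.ι_image_top]; exact hx'
  let a := (LinearEquiv.ofBijective _ (Ref1.stalk_of_isFrame he x ht)).trans
    (LinearEquiv.ofBijective _ (Ref1.stalk_of_isFrame he' x ht')).symm
  simpa using a.finrank_eq

theorem rankAt_of_isFinLocFree {M : X.Modules} (h : FlatMod.IsFinLocFree M) (x : X) : ∃ n, RankAt M x n := by
  obtain ⟨U, n, hx, i⟩ := h x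
  exact ⟨n, U, hx, i⟩

/-- Local freeness of a restriction. -/
theorem rankAt_of_restrict {M : X.Modules} {U : X.Opens} {n : ℕ}
    (h : FlatMod.IsFinLocFreeOfRank n ((Scheme.Modules.restrictFunctor U.ι).obj M)) {x : X} (hx : x ∈ U) :
    RankAt M x n := by
  obtain ⟨V, hV, ⟨i⟩⟩ := h ⟨x, hx⟩
  let o : (V : Scheme.{u}) ⟶ X := V.ι ≫ U.ι
  have hb : o.isoOpensRange.inv ≫ o = o.opensRange.ι := by
    rw [Iso.inv_comp_eq, Scheme.Hom.isoOpensRange_hom_ι]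
  exact ⟨o.opensRange, ⟨⟨⟨x, hx⟩, hV⟩, rfl⟩,
    ⟨((Scheme.Modules.restrictFunctorCongr hb.symm ≪≫
        Scheme.Modules.restrictFunctorComp o.isoOpensRange.inv o).app _) ≪≫
      (Scheme.Modules.restrictFunctor o.isoOpensRange.inv).mapIso
        ((Scheme.Modules.restrictFunctorComp V.ι U.ι).app _ ≪≫ i) ≪≫ DCoh.restrictFreeModIso _ n⟩⟩

theorem RankAt.of_le {M : X.Modules} {V U : X.Opens} (hle : V ≤ U) {n : ℕ}
    (e : M.restrict U.ι ≅ FlatMod.freeMod (↑U) n) :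
    FlatMod.IsFinLocFreeOfRank n ((Scheme.Modules.restrictFunctor V.ι).obj M) :=
  OX.isFinLocFreeOfRank_of_iso
    ((Scheme.Modules.restrictFunctor (X.homOfLE hle)).mapIso e.symm ≪≫
      ((Scheme.Modules.restrictFunctorComp (X.homOfLE hle) U.ι).app M).symm ≪≫
      (Scheme.Modules.restrictFunctorCongr (X.homOfLE_ι hle)).app M)
    (OX.isFinLocFreeOfRank_restrict (X.homOfLE hle) (K0Sub.isFinLocFreeOfRank_freeMod n))

/-- Additivity. -/
theorem RankAt.add {S : ShortComplex X.Modules} (hS : S.ShortExact) {x : X} {a b c : ℕ}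
    (ha : RankAt S.X₁ x a) (hb : RankAt S.X₂ x b) (hc : RankAt S.X₃ x c) : b = a + c := by
  obtain ⟨U₁, h₁, ⟨e₁⟩⟩ := ha
  obtain ⟨U₂, h₂, ⟨e₂⟩⟩ := hb
  obtain ⟨U₃, h₃, ⟨e₃⟩⟩ := hc
  let V : X.Opens := U₁ ⊓ U₂ ⊓ U₃
  haveI := hS.mono_f
  haveI := hS.epi_g
  haveI : Mono (S.map (Scheme.Modules.restrictFunctor V.ι)).f :=
    inferInstanceAs (Mono ((Scheme.Modules.restrictFunctor V.ι).map S.f))
  haveI : Epi (S.map (Scheme.Modules.restrictFunctor V.ι)).g :=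
    inferInstanceAs (Epi ((Scheme.Modules.restrictFunctor V.ι).map S.g))
  exact Euler.rank_add_of_shortExact (⟨x, ⟨⟨h₁, h₂⟩, h₃⟩⟩ : V)
    (S := S.map (Scheme.Modules.restrictFunctor V.ι))
    (ShortComplex.ShortExact.mk' (hS.exact.map _) inferInstance inferInstance)
    (RankAt.of_le (inf_le_left.trans inf_le_left) e₁) (RankAt.of_le (inf_le_left.trans inf_le_right) e₂)
    (RankAt.of_le inf_le_right e₃)

/-- The middle term of a short exact sequence near a point. -/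
theorem RankAt.ext {S : ShortComplex X.Modules} (hS : S.ShortExact) {x : X} {a c : ℕ}
    (ha : RankAt S.X₁ x a) (hc : RankAt S.X₃ x c) : RankAt S.X₂ x (a + c) := by
  obtain ⟨U₁, h₁, ⟨e₁⟩⟩ := ha
  obtain ⟨U₃, h₃, ⟨e₃⟩⟩ := hc
  let V : X.Opens := U₁ ⊓ U₃
  haveI := hS.mono_f
  haveI := hS.epi_g
  haveI : Mono (S.map (Scheme.Modules.restrictFunctor V.ι)).f :=
    inferInstanceAs (Mono ((Scheme.Modules.restrictFunctor V.ι).map S.f))
  haveI : Epi (S.map (Scheme.Modules.restrictFunctor V.ι)).g :=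
    inferInstanceAs (Epi ((Scheme.Modules.restrictFunctor V.ι).map S.g))
  have hS' : (S.map (Scheme.Modules.restrictFunctor V.ι)).ShortExact :=
    ShortComplex.ShortExact.mk' (hS.exact.map _) inferInstance inferInstance
  have r₁ := RankAt.of_le (inf_le_left : V ≤ U₁) e₁
  have r₃ := RankAt.of_le (inf_le_right : V ≤ U₃) e₃
  have hm := K0Sub.isFinLocFree_ext _ hS' (OX.isFinLocFree_of_rank' r₁) (OX.isFinLocFree_of_rank' r₃)
  let x' : V := ⟨x, h₁, h₃⟩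
  obtain ⟨W, n, hW, ⟨eW⟩⟩ := hm x'
  obtain ⟨W₁, hW₁, ⟨f₁⟩⟩ := r₁ x'
  obtain ⟨W₃, hW₃, ⟨f₃⟩⟩ := r₃ x'
  have hn : n = a + c := RankAt.add hS' ⟨W₁, hW₁, ⟨f₁⟩⟩ ⟨W, hW, ⟨eW⟩⟩ ⟨W₃, hW₃, ⟨f₃⟩⟩
  subst hn
  let o : (W : Scheme.{u}) ⟶ X := W.ι ≫ V.ι
  have hb : o.isoOpensRange.inv ≫ o = o.opensRange.ι := by
    rw [Iso.inv_comp_eq, Scheme.Hom.isoOpensRange_hom_ι]
  exact ⟨o.opensRange, ⟨⟨x', hW⟩, rfl⟩,
    ⟨((Scheme.Modules.restrictFunctorCongr hb.symm ≪≫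
        Scheme.Modules.restrictFunctorComp o.isoOpensRange.inv o).app _) ≪≫
      (Scheme.Modules.restrictFunctor o.isoOpensRange.inv).mapIso
        ((Scheme.Modules.restrictFunctorComp W.ι V.ι).app _ ≪≫ eW) ≪≫ DCoh.restrictFreeModIso _ (a + c)⟩⟩

end GrothLib.ConStalk4
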