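import Groth.Agent.Lib.ConStalk4.Maps
import Mathlib.AlgebraicGeometry.Morphisms.Smooth

/-!
# The sequence `C_{Z/Y} → C_{Z/X} → i^*Ω_{X/Y} → 0`
-/

set_option autoImplicit false
set_option linter.style.haveILetI false
set_option backward.isDefEq.respectTransparency false
set_option maxHeartbeats 1000000

universe u

open CategoryTheory CategoryTheory.Limits AlgebraicGeometry Opposite TopologicalSpace
open scoped TensorProduct
open GrothLib GrothLib.OmegaUniv
open GrothLib.IdealModSec (val)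

noncomputable section

namespace GrothLib.ConStalk4

variable {X Y Z : Scheme.{u}} (p : X ⟶ Y) (i : Z ⟶ X) [IsImmersion i] [QuasiCompact i]
  [IsImmersion (i ≫ p)] [QuasiCompact (i ≫ p)] {Ω : X.Modules} {d : OmegaSh.Der p Ω}

attribute [local instance] OmegaUniv.stalkAlg

variable {p i}

/-- The map `C_{Z/Y} → C_{Z/X}` out of the conormal sheaf itself. -/
abbrev unId (ψ : (Scheme.Modules.pullback (𝟙 Z)).obj (Omega.conormal (i ≫ p)) ⟶ Omega.conormal i) :
    Omega.conormal (i ≫ p) ⟶ Omega.conormal i :=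
  (Scheme.Modules.pullbackId Z).inv.app (Omega.conormal (i ≫ p)) ≫ ψ

variable (ψ : (Scheme.Modules.pullback (𝟙 Z)).obj (Omega.conormal (i ≫ p)) ⟶ Omega.conormal i)
  (hψ : OmegaSh.IsConormalMap i (i ≫ p) p (𝟙 Z) ψ)
  (φ : Omega.conormal i ⟶ (Scheme.Modules.pullback i).obj Ω) (hφ : OmegaSh.IsConormalDiff i d φ)

include hψ hφ

theorem unId_comp : unId ψ ≫ φ = 0 := by
  refine PPGen.hom_ext_pullSect (i ≫ p) (M := ClSub.idealMod (i ≫ p).ker) (G := (Scheme.Modules.pullback i).obj Ω)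
    _ _ fun U m => ?_
  obtain ⟨s, hs, hψs⟩ := conormalMap_app p i ψ hψ U m
  show φ.app ((i ≫ p) ⁻¹ᵁ U) ((unId ψ).app ((i ≫ p) ⁻¹ᵁ U) (OmegaSh.conormalSect (i ≫ p) U m)) = 0
  refine (congrArg (φ.app ((i ≫ p) ⁻¹ᵁ U)) hψs).trans ((hφ (p ⁻¹ᵁ U) s).trans ?_)
  rw [show OmegaSh.idealSect i.ker (p ⁻¹ᵁ U) s = p.app U (val (i ≫ p).ker U m) from hs]
  exact (congrArg (OmegaSh.pullSect i Ω (p ⁻¹ᵁ U)) (d.d_app (X := op U) (val (i ≫ p).ker U m))).trans (map_zero _)

theorem comp_eq_zero : ψ ≫ φ = 0 := by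
  have h := unId_comp ψ hψ φ hφ
  rw [Category.assoc] at h
  rw [← cancel_epi ((Scheme.Modules.pullbackId Z).inv.app (Omega.conormal (i ≫ p))), h, comp_zero]

variable (hd : OmegaSh.IsUniversal d)
include hd

/-- Exactness and surjectivity. -/
theorem exact_and_epi (w : unId ψ ≫ φ = 0) : (ShortComplex.mk (unId ψ) φ w).Exact ∧ Epi φ := by
  constructor
  · rw [OX.exact_iff]
    intro z
    rw [ShortComplex.moduleCat_exact_iff]
    intro (e : St z (Omega.conormal i)) (he : stalkLin z φ e = 0)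
    show ∃ e', stalkLin z (unId ψ) e' = e
    obtain ⟨k, rfl⟩ := cls_surjective i z e
    letI : Algebra (Y.presheaf.stalk (p (i z))) (Z.presheaf.stalk z) := stalkAlg (i ≫ p) z
    haveI : IsScalarTower (Y.presheaf.stalk (p (i z))) (X.presheaf.stalk (i z)) (Z.presheaf.stalk z) :=
      IsScalarTower.of_algebraMap_eq fun a => stalkMap_comp_apply (p := p) i z a
    have hk := mem_sup_sq (A := Y.presheaf.stalk (p (i z))) (B := X.presheaf.stalk (i z)) (C := Z.presheaf.stalk z)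
      ((i ≫ p).stalkMap_surjective z) k.2 (by
        have := omegaEquiv_conormalDiff i z hd φ hφ k
        rw [he, map_zero] at this
        exact this.symm)
    obtain ⟨a, ha, b, hb, hab⟩ := Submodule.mem_sup.1 hk
    have hbK : b ∈ K i z := Ideal.pow_le_self two_ne_zero hb
    have haK : a ∈ K i z := by
      rw [show a = (k : X.presheaf.stalk (i z)) - b from eq_sub_of_add_eq hab]
      exact sub_mem k.2 hbK
    let S := LinearMap.range (stalkLin z (unId ψ))
    suffices h : cls i z ⟨a, haK⟩ ∈ S by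
      have hb0 : cls i z (⟨b, hbK⟩ : K i z) = 0 := (cls_eq_zero_iff i z _).2 hb
      have e := (cls i z).map_add (⟨a, haK⟩ : K i z) (⟨b, hbK⟩ : K i z)
      rw [hb0, add_zero, show (⟨a, haK⟩ : K i z) + ⟨b, hbK⟩ = k from Subtype.ext hab] at e
      obtain ⟨e', he'⟩ := h
      exact ⟨e', he'.trans e.symm⟩
    suffices H : ∀ x ∈ (RingHom.ker (algebraMap (Y.presheaf.stalk (p (i z))) (Z.presheaf.stalk z))).map
        (algebraMap (Y.presheaf.stalk (p (i z))) (X.presheaf.stalk (i z))), ∃ h : x ∈ K i z, cls i z ⟨x, h⟩ ∈ S from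
      (H a ha).2
    intro x hx
    refine Submodule.span_induction (p := fun x _ => ∃ h : x ∈ K i z, cls i z ⟨x, h⟩ ∈ S) ?_ ?_ ?_ ?_ hx
    · rintro _ ⟨l, hl, rfl⟩
      exact ⟨(kerLift p i z ⟨l, hl⟩).2, cls (i ≫ p) z ⟨l, hl⟩, stalkLin_conormalMap_cls p i z ψ hψ ⟨l, hl⟩⟩
    · refine ⟨zero_mem _, ?_⟩
      have e : cls i z (⟨0, zero_mem _⟩ : K i z) = 0 := (cls i z).map_zero
      exact e ▸ zero_mem S
    · rintro x y - - ⟨hx₁, hx₂⟩ ⟨hy₁, hy₂⟩
      refine ⟨add_mem hx₁ hy₁, ?_⟩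
      have e := (cls i z).map_add (⟨x, hx₁⟩ : K i z) (⟨y, hy₁⟩ : K i z)
      exact (congrArg (· ∈ S) e).mpr (add_mem hx₂ hy₂)
    · rintro c x - ⟨hx₁, hx₂⟩
      refine ⟨Submodule.smul_mem _ c hx₁, ?_⟩
      exact (congrArg (· ∈ S) (cls_smul i z c ⟨x, hx₁⟩)).mpr (Submodule.smul_mem S _ hx₂)
  · rw [OX.epi_iff]
    intro z
    rw [ModuleCat.epi_iff_surjective]
    show Function.Surjective (stalkLin z φ)
    intro w'
    letI : Algebra (Y.presheaf.stalk (p (i z))) (Z.presheaf.stalk z) := stalkAlg (i ≫ p) z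
    haveI : IsScalarTower (Y.presheaf.stalk (p (i z))) (X.presheaf.stalk (i z)) (Z.presheaf.stalk z) :=
      IsScalarTower.of_algebraMap_eq fun a => stalkMap_comp_apply (p := p) i z a
    have h := mem_of_forall_ker (A := Y.presheaf.stalk (p (i z))) (B := X.presheaf.stalk (i z))
      (C := Z.presheaf.stalk z) ((i ≫ p).stalkMap_surjective z)
      (S := LinearMap.range ((omegaEquiv i z hd).toLinearMap.comp (stalkLin z φ)))
      (fun k hk => ⟨cls i z ⟨k, hk⟩, omegaEquiv_conormalDiff i z hd φ hφ ⟨k, hk⟩⟩) (omegaEquiv i z hd w')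
    obtain ⟨e, he⟩ := h
    exact ⟨e, (omegaEquiv i z hd).injective he⟩

omit hd hφ in
/-- Injectivity for smooth `p`. -/
theorem mono_unId [Smooth p] : Mono (unId ψ) := by
  rw [OX.mono_iff]
  intro z
  rw [ModuleCat.mono_iff_injective]
  show Function.Injective (stalkLin z (unId ψ))
  refine (injective_iff_map_eq_zero _).2 fun e he => ?_
  obtain ⟨l, rfl⟩ := cls_surjective (i ≫ p) z e
  replace he := (cls_eq_zero_iff i z (kerLift p i z l)).1 ((stalkLin_conormalMap_cls p i z ψ hψ l).symm.trans he)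
  refine (cls_eq_zero_iff (i ≫ p) z l).2 ?_
  letI : Algebra (Y.presheaf.stalk (p (i z))) (Z.presheaf.stalk z) := stalkAlg (i ≫ p) z
  haveI : IsScalarTower (Y.presheaf.stalk (p (i z))) (X.presheaf.stalk (i z)) (Z.presheaf.stalk z) :=
    IsScalarTower.of_algebraMap_eq fun a => stalkMap_comp_apply (p := p) i z a
  have hfs : (p.stalkMap (i z)).hom.FormallySmooth :=
    Scheme.Hom.mem_smoothLocus.1 (p.smoothLocus_eq_top.ge trivial)
  haveI : Algebra.FormallySmooth (Y.presheaf.stalk (p (i z))) (X.presheaf.stalk (i z)) := hfs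
  exact mem_sq_of_formallySmooth (A := Y.presheaf.stalk (p (i z))) (B := X.presheaf.stalk (i z))
    (C := Z.presheaf.stalk z) ((i ≫ p).stalkMap_surjective z) l.2 he

end GrothLib.ConStalk4
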