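import Groth.Agent.Lib.ConStalk4.SmoothPair
import Groth.Agent.Lib.ConStalk4.RankAt
import Groth.Agent.Lib.ConStalk4.Seq
import Groth.Agent.Lib.AlgSp.FibreDimBC
import Groth.Agent.S9711

/-!
# The virtual relative dimension
-/

set_option autoImplicit false
set_option linter.style.haveILetI false
set_option backward.isDefEq.respectTransparency false
set_option maxHeartbeats 1000000

universe u

open CategoryTheory CategoryTheory.Limits AlgebraicGeometry Opposite TopologicalSpace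
open GrothLib

noncomputable section

namespace GrothLib.ConStalk4

variable {X V V' Y : Scheme.{u}}

/-- The rank of the pullback of differentials of a smooth morphism. -/
theorem exists_rankAt_omega (g : V ⟶ Y) [Smooth g] (i : X ⟶ V) (Ω : V.Modules) (d : OmegaSh.Der g Ω)
    (hd : OmegaSh.IsUniversal d) (x : X) :
    ∃ n, RankAt ((Scheme.Modules.pullback i).obj Ω) x n ∧ FlatMor.fibreDimAt g (i x) = (n : WithBot ℕ∞) := by
  obtain ⟨U, n, hU, he, hn⟩ := exists_free_omega g Ω d hd (i x)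
  exact ⟨n, RankAt.pullback i ⟨U, hU, he⟩, hn⟩

/-- The conormal sheaf of a lift through a smooth morphism. -/
theorem exists_rankAt_conormal_lift {P : Scheme.{u}} (p : P ⟶ V) [Smooth p] [QuasiSeparated p] (k : X ⟶ P)
    (i : X ⟶ V) [IsImmersion k] [QuasiCompact k] [IsImmersion i] [QuasiCompact i] (hk : k ≫ p = i) {x : X} {b : ℕ}
    (hb : RankAt (Omega.conormal i) x b) :
    ∃ m, RankAt (Omega.conormal k) x (b + m) ∧ FlatMor.fibreDimAt p (k x) = (m : WithBot ℕ∞) := by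
  have hd := Groth.Agent.S5005.result p
  obtain ⟨ψ, hψ, -⟩ := existsUnique (i := k) (i' := i) (g := p) (gZ := 𝟙 X) (by rw [Category.id_comp, hk])
  obtain ⟨m, hm, hm'⟩ := exists_rankAt_omega p k _ _ hd x
  obtain ⟨w, hS⟩ := Groth.Agent.S9711.result p k i hk _ _ hd ψ hψ _
    (isConormalDiff_conormalDiff k (OmegaSh.dOmega p))
  exact ⟨m, RankAt.ext hS (RankAt.iso hb ((Scheme.Modules.pullbackId X).app _).symm) hm, hm'⟩

/-- Rank of conormal sheaves on an open piece. -/
theorem rankAt_conormal_of_isPullback {X₀ V₀ : Scheme.{u}} {o : X₀ ⟶ X} {oV : V₀ ⟶ V} [IsOpenImmersion oV]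
    {j : X₀ ⟶ V₀} {i : X ⟶ V} [IsImmersion i] [QuasiCompact i] [IsImmersion j] [QuasiCompact j]
    (h : IsPullback j o oV i) {x : X₀} {b : ℕ} (hb : RankAt (Omega.conormal i) (o x) b) :
    RankAt (Omega.conormal j) x b := by
  obtain ⟨φ, hφ, -⟩ := existsUnique (i := j) (i' := i) (g := oV) (gZ := o) h.w.symm
  haveI := isIso_of_flat h φ hφ
  exact RankAt.iso (RankAt.pullback o hb) (asIso φ)

/-- Comparison of two embeddings in smooth separated schemes. -/
theorem add_eq_add_of_two (g : V ⟶ Y) [Smooth g] [IsSeparated g] (g' : V' ⟶ Y) [Smooth g'] [IsSeparated g']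
    (i : X ⟶ V) [IsClosedImmersion i] (i' : X ⟶ V') [IsClosedImmersion i'] (hii : i ≫ g = i' ≫ g')
    (x : X) (b b' N N' : ℕ) (hb : RankAt (Omega.conormal i) x b) (hb' : RankAt (Omega.conormal i') x b')
    (hN : FlatMor.fibreDimAt g (i x) = (N : WithBot ℕ∞))
    (hN' : FlatMor.fibreDimAt g' (i' x) = (N' : WithBot ℕ∞)) : b + N' = b' + N := by
  let k := pullback.lift i i' hii
  haveI : IsClosedImmersion (k ≫ pullback.fst g g') := by rw [pullback.lift_fst]; infer_instance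
  haveI : IsClosedImmersion k := IsClosedImmersion.of_comp k (pullback.fst g g')
  obtain ⟨m, hm, hm'⟩ := exists_rankAt_conormal_lift (pullback.fst g g') k i (pullback.lift_fst _ _ _) hb
  obtain ⟨r, hr, hr'⟩ := exists_rankAt_conormal_lift (pullback.snd g g') k i' (pullback.lift_snd _ _ _) hb'
  have h := hm.unique hr
  have h1 : FlatMor.fibreDimAt (pullback.fst g g') (k x) = FlatMor.fibreDimAt g' (i' x) := by
    rw [AlgSp.fibreDimAt_of_isPullback (IsPullback.of_hasPullback g g').flip (k x), ← Scheme.Hom.comp_apply,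
      pullback.lift_snd]
  have h2 : FlatMor.fibreDimAt (pullback.snd g g') (k x) = FlatMor.fibreDimAt g (i x) := by
    rw [AlgSp.fibreDimAt_of_isPullback (IsPullback.of_hasPullback g g') (k x), ← Scheme.Hom.comp_apply,
      pullback.lift_fst]
  have em : N' = m := by exact_mod_cast hN'.symm.trans (h1.symm.trans hm')
  have er : N = r := by exact_mod_cast hN.symm.trans (h2.symm.trans hr')
  omega

/-- The same without separation hypotheses. -/
theorem add_eq_add_of_two' (g : V ⟶ Y) [Smooth g] (g' : V' ⟶ Y) [Smooth g']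
    (i : X ⟶ V) [IsClosedImmersion i] (i' : X ⟶ V') [IsClosedImmersion i'] (hii : i ≫ g = i' ≫ g')
    (x : X) (b b' N N' : ℕ) (hb : RankAt (Omega.conormal i) x b) (hb' : RankAt (Omega.conormal i') x b')
    (hN : FlatMor.fibreDimAt g (i x) = (N : WithBot ℕ∞))
    (hN' : FlatMor.fibreDimAt g' (i' x) = (N' : WithBot ℕ∞)) : b + N' = b' + N := by
  obtain ⟨T, hT, hxT, -⟩ := exists_isAffineOpen_mem_and_subset (x := g (i x)) (U := (⊤ : Y.Opens)) trivial
  have hxT' : g' (i' x) ∈ T := by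
    rw [← Scheme.Hom.comp_apply, ← hii, Scheme.Hom.comp_apply]; exact hxT
  obtain ⟨W', hW', hxW', hW'T⟩ := exists_isAffineOpen_mem_and_subset (x := i' x) (U := g' ⁻¹ᵁ T) hxT'
  obtain ⟨O, hO, hOe⟩ := i.isEmbedding.isInducing.isOpen_iff.1 (i' ⁻¹ᵁ W').2
  have hxO : i x ∈ O := by
    show x ∈ i ⁻¹' O
    rw [hOe]; exact hxW'
  obtain ⟨W, hW, hxW, hWle⟩ := exists_isAffineOpen_mem_and_subset (x := i x)
    (U := (⟨O, hO⟩ : V.Opens) ⊓ g ⁻¹ᵁ T) ⟨hxO, hxT⟩
  obtain ⟨O', hO', hOe'⟩ := i'.isEmbedding.isInducing.isOpen_iff.1 (i ⁻¹ᵁ W).2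
  let W'' : V'.Opens := W' ⊓ ⟨O', hO'⟩
  have hsub : i ⁻¹ᵁ W ≤ i' ⁻¹ᵁ W' := fun y hy => hOe.le (hWle hy).1
  have heq : i ⁻¹ᵁ W = i' ⁻¹ᵁ W'' := by
    refine le_antisymm (fun y hy => ⟨hsub hy, hOe'.ge hy⟩) fun y hy => hOe'.le hy.2
  haveI : IsAffine (W : Scheme.{u}) := hW
  haveI : IsAffine (W' : Scheme.{u}) := hW'
  haveI : IsAffine (T : Scheme.{u}) := hT
  haveI hs : IsSeparated (W.ι ≫ g) := by
    rw [← Scheme.Hom.resLE_comp_ι g (hWle.trans inf_le_right)]
    infer_instance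
  haveI hs' : IsSeparated (W'.ι ≫ g') := by
    rw [← Scheme.Hom.resLE_comp_ι g' hW'T]
    infer_instance
  haveI : IsSeparated (W''.ι ≫ g') := by
    rw [← V'.homOfLE_ι (inf_le_left : W'' ≤ W'), Category.assoc]
    infer_instance
  let j : (i ⁻¹ᵁ W : X.Opens).toScheme ⟶ (W : Scheme.{u}) := i ∣_ W
  let j' : (i ⁻¹ᵁ W : X.Opens).toScheme ⟶ (W'' : Scheme.{u}) := (X.isoOfEq heq).hom ≫ i' ∣_ W''
  haveI : IsClosedImmersion j := IsZariskiLocalAtTarget.restrict ‹IsClosedImmersion i› W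
  haveI : IsClosedImmersion (i' ∣_ W'') := IsZariskiLocalAtTarget.restrict ‹IsClosedImmersion i'› W''
  have hP' : IsPullback j' (i ⁻¹ᵁ W).ι W''.ι i' :=
    (isPullback_morphismRestrict i' W'').of_iso (X.isoOfEq heq).symm (Iso.refl _) (Iso.refl _) (Iso.refl _)
      (by simp [j']) (by simp) (by simp) (by simp)
  let x₀ : (i ⁻¹ᵁ W : X.Opens).toScheme := ⟨x, hxW⟩
  refine add_eq_add_of_two (W.ι ≫ g) (W''.ι ≫ g') j j' ?_ x₀ b b' N N'
    (rankAt_conormal_of_isPullback (x := x₀) (isPullback_morphismRestrict i W) hb)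
    (rankAt_conormal_of_isPullback (x := x₀) hP' hb') ?_ ?_
  · rw [← Category.assoc, ← Category.assoc, morphismRestrict_ι, hP'.w, Category.assoc, Category.assoc, hii]
  · rw [CMMor6.fibreDimAt_comp_flat_lqf W.ι g, ← Scheme.Hom.comp_apply, morphismRestrict_ι, Scheme.Hom.comp_apply]
    exact hN
  · rw [CMMor6.fibreDimAt_comp_flat_lqf W''.ι g', ← Scheme.Hom.comp_apply, hP'.w, Scheme.Hom.comp_apply]
    exact hN'

end GrothLib.ConStalk4
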