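import Groth.Agent.Lib.ConStalk4.Stalk
import Groth.Prelude.Def_Omega4

/-!
# Existence of `C_{Z/X} → i^*Ω`
-/

set_option autoImplicit false
set_option backward.isDefEq.respectTransparency false
set_option maxHeartbeats 1000000

universe u

open CategoryTheory CategoryTheory.Limits AlgebraicGeometry Opposite TopologicalSpace
open GrothLib
open GrothLib.IdealModSec (val)
open GrothLib.InvExt (mres fres)

noncomputable section

namespace GrothLib.ConStalk4

variable {Z X Y : Scheme.{u}} (i : Z ⟶ X) [QuasiCompact i] {f : X ⟶ Y} {Ω : X.Modules} (d : OmegaSh.Der f Ω)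

/-- `m ↦ i^* d m`. -/
def cdVal (U : X.Opens) (m : Γ(ClSub.idealMod i.ker, U)) : Γ((Scheme.Modules.pullback i).obj Ω, i ⁻¹ᵁ U) :=
  OmegaSh.pullSect i Ω U (d.app U (val i.ker U m))

theorem cdVal_smul (U : X.Opens) (a : Γ(X, U)) (m : Γ(ClSub.idealMod i.ker, U)) :
    cdVal i d U (a • m) = i.app U a • cdVal i d U m := by
  show OmegaSh.pullSect i Ω U (d.app U (val i.ker U (a • m))) =
    i.app U a • OmegaSh.pullSect i Ω U (d.app U (val i.ker U m))
  have hd : d.app U (val i.ker U (a • m)) = a • d.app U (val i.ker U m) + val i.ker U m • d.app U a := by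
    rw [IdealModSec.val_smul]
    exact d.d_mul (X := op U) a (val i.ker U m)
  rw [hd, map_add, OmegaSh.pullSect_smul, OmegaSh.pullSect_smul, H1Sheaf6.app_val_eq_zero, zero_smul, add_zero]

/-- The map on ideals. -/
def cdIdeal : ClSub.idealMod i.ker ⟶ (Scheme.Modules.pushforward i).obj ((Scheme.Modules.pullback i).obj Ω) :=
  ⟨{ app := fun U => ModuleCat.ofHom (X := (ClSub.idealMod i.ker).val.obj U)
        (Y := ((Scheme.Modules.pushforward i).obj ((Scheme.Modules.pullback i).obj Ω)).val.obj U)
        { toFun := fun m => cdVal i d U.unop m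
          map_add' := fun m n => by
            show OmegaSh.pullSect i Ω U.unop (d.app U.unop ((ClSub.idealModι i.ker).app U.unop (m + n))) = _
            rw [map_add, map_add, map_add]
            rfl
          map_smul' := fun a m => cdVal_smul i d U.unop a m }
     naturality := fun {U V} h => by
        ext m
        show cdVal i d V.unop (mres (ClSub.idealMod i.ker) h.unop.le m) =
          mres ((Scheme.Modules.pullback i).obj Ω) (i.preimage_mono h.unop.le) (cdVal i d U.unop m)
        show OmegaSh.pullSect i Ω V.unop (d.app V.unop (val i.ker V.unop (mres (ClSub.idealMod i.ker) h.unop.le m))) = _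
        rw [IdealModSec.val_mres]
        refine (congrArg (OmegaSh.pullSect i Ω V.unop)
          (d.d_map (X := U) (Y := V) h (val i.ker U.unop m))).trans ?_
        exact OmegaSh.pullSect_map i Ω h.unop.le (d.app U.unop (val i.ker U.unop m)) }⟩

/-- `C_{Z/X} → i^*Ω`. -/
def conormalDiff : Omega.conormal i ⟶ (Scheme.Modules.pullback i).obj Ω :=
  ((Scheme.Modules.pullbackPushforwardAdjunction i).homEquiv _ _).symm (cdIdeal i d)

theorem isConormalDiff_conormalDiff : OmegaSh.IsConormalDiff i d (conormalDiff i d) := fun U s => by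
  let adj := Scheme.Modules.pullbackPushforwardAdjunction i
  exact congr($((adj.homEquiv_unit _ _ (conormalDiff i d)).symm.trans
    (Equiv.apply_symm_apply (adj.homEquiv _ _) _)).app U s)

end GrothLib.ConStalk4
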