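import Groth.Agent.Lib.FormalFun.Levels
import Mathlib.RingTheory.Kaehler.Basic
import Mathlib.RingTheory.Smooth.Basic

/-!
# Algebra of the conormal–differentials sequence of a surjection `B → C`
-/

set_option autoImplicit false
universe u

open TensorProduct

namespace GrothLib.ConStalk4

variable {A B C : Type u} [CommRing A] [CommRing B] [CommRing C] [Algebra A B] [Algebra B C]

section

variable (hBC : Function.Surjective (algebraMap B C))

include hBC

/-- A derivation with values in `K/N`, `N ⊇ K²`, detects the kernel of `k ↦ 1 ⊗ D k`. -/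
theorem der_eq_zero_of_one_tmul_D_eq_zero (N : Ideal B) (hN : RingHom.ker (algebraMap B C) ^ 2 ≤ N)
    (δ : Derivation A B (B ⧸ N))
    (hδ : ∀ b, δ b ∈ (RingHom.ker (algebraMap B C)).map (Ideal.Quotient.mk N))
    {k : B} (h : (1 : C) ⊗ₜ[B] KaehlerDifferential.D A B k = 0) : δ k = 0 := by
  set K := RingHom.ker (algebraMap B C) with hK
  have hsq : ∀ c ∈ K, ∀ y ∈ K.map (Ideal.Quotient.mk N), c • y = (0 : B ⧸ N) := by
    intro c hc y hy
    obtain ⟨e, he, rfl⟩ := (Ideal.mem_map_iff_of_surjective _ Ideal.Quotient.mk_surjective).1 hy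
    show Ideal.Quotient.mk N (c * e) = 0
    rw [Ideal.Quotient.eq_zero_iff_mem]
    exact hN (by rw [pow_two]; exact Ideal.mul_mem_mul hc he)
  let ℓ := δ.liftKaehlerDifferential
  have hmem : ∀ w, ℓ w ∈ K.map (Ideal.Quotient.mk N) := by
    intro w
    have hw : w ∈ Submodule.span B (Set.range (KaehlerDifferential.D A B)) := by
      rw [KaehlerDifferential.span_range_derivation]; trivial
    induction hw using Submodule.span_induction with
    | mem x hx => obtain ⟨b, rfl⟩ := hx; rw [Derivation.liftKaehlerDifferential_comp_D]; exact hδ b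
    | zero => rw [map_zero]; exact zero_mem _
    | add x y _ _ hx hy => rw [map_add]; exact add_mem hx hy
    | smul c x _ hx =>
      rw [map_smul]
      exact Ideal.mul_mem_left _ (Ideal.Quotient.mk N c) hx
  have h1 := FormalFun.mem_smul_top_of_one_tmul_eq_zero C hBC h
  rw [← Derivation.liftKaehlerDifferential_comp_D δ]
  refine Submodule.smul_induction_on h1 (fun c hc w _ => ?_) fun x y hx hy => ?_
  · show ℓ (c • w) = 0
    rw [map_smul]
    exact hsq c hc _ (hmem w)
  · show ℓ (x + y) = 0
    rw [map_add]
    exact (congrArg₂ (· + ·) hx hy).trans (add_zero _)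

/-- With a section `C → B/K²` of `A`-algebras the kernel of `k ↦ 1 ⊗ D k` is `K²`. -/
theorem mem_sq_of_section (σ : C →+* B ⧸ RingHom.ker (algebraMap B C) ^ 2)
    (hσ : ∀ b : B, σ (algebraMap B C b) - Ideal.Quotient.mk _ b ∈
      (RingHom.ker (algebraMap B C)).map (Ideal.Quotient.mk (RingHom.ker (algebraMap B C) ^ 2)))
    (hσA : ∀ a : A, σ (algebraMap B C (algebraMap A B a)) = Ideal.Quotient.mk _ (algebraMap A B a))
    {k : B} (hk : k ∈ RingHom.ker (algebraMap B C))
    (h : (1 : C) ⊗ₜ[B] KaehlerDifferential.D A B k = 0) : k ∈ RingHom.ker (algebraMap B C) ^ 2 := by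
  let π := Ideal.Quotient.mk (RingHom.ker (algebraMap B C) ^ 2)
  let τ : B →+* B ⧸ RingHom.ker (algebraMap B C) ^ 2 := σ.comp (algebraMap B C)
  have hmul : ∀ b b' : B, (π b - τ b) * (π b' - τ b') = 0 := by
    intro b b'
    have e : ∀ c, π c - τ c ∈ (RingHom.ker (algebraMap B C)).map π := fun c => by
      have := neg_mem (hσ c)
      rw [neg_sub] at this
      exact this
    have h2 := Ideal.mul_mem_mul (e b) (e b')
    rw [← Ideal.map_mul, ← pow_two, Ideal.map_quotient_self, Submodule.mem_bot] at h2
    exact h2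
  let δ : Derivation A B (B ⧸ RingHom.ker (algebraMap B C) ^ 2) :=
    Derivation.mk'
      { toFun := fun b => π b - τ b
        map_add' := fun b b' => by rw [map_add, map_add]; abel
        map_smul' := fun a b => by
          rw [RingHom.id_apply, Algebra.smul_def a b, map_mul, map_mul,
            show τ (algebraMap A B a) = π (algebraMap A B a) from hσA a, ← mul_sub, Algebra.smul_def]
          rfl }
      (fun b b' => by
        show π (b * b') - τ (b * b') = π b * (π b' - τ b') + π b' * (π b - τ b)
        rw [map_mul, map_mul]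
        linear_combination (-1 : B ⧸ RingHom.ker (algebraMap B C) ^ 2) * hmul b b')
  have h0 : δ k = 0 := by
    refine der_eq_zero_of_one_tmul_D_eq_zero hBC _ le_rfl δ (fun b => ?_) h
    have := neg_mem (hσ b)
    rw [neg_sub] at this
    exact this
  have hτ : τ k = 0 := by
    show σ (algebraMap B C k) = 0
    rw [show algebraMap B C k = 0 from hk, map_zero]
  exact Ideal.Quotient.eq_zero_iff_mem.1 (by
    have : π k - τ k = 0 := h0
    rwa [hτ, sub_zero] at this)

end

variable [Algebra A C] [IsScalarTower A B C] (hAC : Function.Surjective (algebraMap A C))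

include hAC

theorem surjective_of_tower : Function.Surjective (algebraMap B C) := fun c => by
  obtain ⟨a, ha⟩ := hAC c
  exact ⟨algebraMap A B a, by rw [← IsScalarTower.algebraMap_apply, ha]⟩

theorem sub_lift_mem (b : B) :
    b - algebraMap A B (hAC (algebraMap B C b)).choose ∈ RingHom.ker (algebraMap B C) := by
  rw [RingHom.mem_ker, map_sub, ← IsScalarTower.algebraMap_apply, (hAC _).choose_spec, sub_self]

/-- `C ⊗ Ω[B/A]` is generated by the differentials of `ker (B → C)`. -/
theorem mem_of_forall_ker {S : Submodule C (C ⊗[B] Ω[B⁄A])}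
    (hS : ∀ k ∈ RingHom.ker (algebraMap B C), (1 : C) ⊗ₜ[B] KaehlerDifferential.D A B k ∈ S)
    (w : C ⊗[B] Ω[B⁄A]) : w ∈ S := by
  have hD : ∀ b : B, (1 : C) ⊗ₜ[B] KaehlerDifferential.D A B b ∈ S := fun b => by
    have := hS _ (sub_lift_mem hAC b)
    rwa [map_sub, Derivation.map_algebraMap, sub_zero] at this
  have h1 : ∀ x : Ω[B⁄A], (1 : C) ⊗ₜ[B] x ∈ S := fun x => by
    have hx : x ∈ Submodule.span B (Set.range (KaehlerDifferential.D A B)) := by
      rw [KaehlerDifferential.span_range_derivation]; trivial
    induction hx using Submodule.span_induction with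
    | mem y hy => obtain ⟨b, rfl⟩ := hy; exact hD b
    | zero => rw [TensorProduct.tmul_zero]; exact zero_mem _
    | add y z _ _ hy hz => rw [TensorProduct.tmul_add]; exact add_mem hy hz
    | smul c y _ hy =>
      rw [TensorProduct.tmul_smul, ← algebraMap_smul C c]
      exact S.smul_mem _ hy
  induction w using TensorProduct.induction_on with
  | zero => exact zero_mem _
  | tmul c x =>
    rw [show c ⊗ₜ[B] x = c • ((1 : C) ⊗ₜ[B] x) by rw [TensorProduct.smul_tmul', smul_eq_mul, mul_one]]
    exact S.smul_mem _ (h1 x)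
  | add y z hy hz => exact add_mem hy hz

/-- The kernel of `k ↦ 1 ⊗ D k` for `A → C` surjective. -/
theorem mem_sup_sq {k : B} (hk : k ∈ RingHom.ker (algebraMap B C))
    (h : (1 : C) ⊗ₜ[B] KaehlerDifferential.D A B k = 0) :
    k ∈ (RingHom.ker (algebraMap A C)).map (algebraMap A B) ⊔ RingHom.ker (algebraMap B C) ^ 2 := by
  set K := RingHom.ker (algebraMap B C) with hK
  set N := (RingHom.ker (algebraMap A C)).map (algebraMap A B) ⊔ K ^ 2 with hN
  let π := Ideal.Quotient.mk N
  let s : C → A := fun c => (hAC c).choose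
  have hs : ∀ c, algebraMap A C (s c) = c := fun c => (hAC c).choose_spec
  have hcg : ∀ a a' : A, algebraMap A C a = algebraMap A C a' →
      π (algebraMap A B a) = π (algebraMap A B a') := fun a a' e => by
    rw [Ideal.Quotient.eq, ← map_sub]
    exact Ideal.mem_sup_left (Ideal.mem_map_of_mem _ (by rw [RingHom.mem_ker, map_sub, e, sub_self]))
  let e : B → A := fun b => s (algebraMap B C b)
  have he : ∀ b, algebraMap A C (e b) = algebraMap B C b := fun b => hs _
  have hmul : ∀ b b' : B, (π b - π (algebraMap A B (e b))) * (π b' - π (algebraMap A B (e b'))) = 0 := by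
    intro b b'
    rw [← map_sub, ← map_sub, ← map_mul, Ideal.Quotient.eq_zero_iff_mem]
    exact Ideal.mem_sup_right (by rw [pow_two]; exact Ideal.mul_mem_mul (sub_lift_mem hAC b) (sub_lift_mem hAC b'))
  let δ : Derivation A B (B ⧸ N) :=
    Derivation.mk'
      { toFun := fun b => π b - π (algebraMap A B (e b))
        map_add' := fun b b' => by
          rw [hcg (e (b + b')) (e b + e b') (by rw [map_add, he, he, he, map_add])]
          simp only [map_add]
          abel
        map_smul' := fun a b => by
          rw [RingHom.id_apply, hcg (e (a • b)) (a * e b) (by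
            rw [map_mul, he, he, Algebra.smul_def, map_mul, IsScalarTower.algebraMap_apply A B C]),
            Algebra.smul_def a b, Algebra.smul_def]
          simp only [map_mul, mul_sub]
          rfl }
      (fun b b' => by
        show π (b * b') - π (algebraMap A B (e (b * b'))) =
          π b * (π b' - π (algebraMap A B (e b'))) + π b' * (π b - π (algebraMap A B (e b)))
        rw [hcg (e (b * b')) (e b * e b') (by rw [map_mul, he, he, he, map_mul]), map_mul, map_mul, map_mul]
        linear_combination (-1 : B ⧸ N) * hmul b b')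
  have h0 : δ k = 0 := by
    refine der_eq_zero_of_one_tmul_D_eq_zero (surjective_of_tower hAC) N le_sup_right δ (fun b => ?_) h
    show π b - π _ ∈ _
    rw [← map_sub]
    exact Ideal.mem_map_of_mem _ (sub_lift_mem hAC b)
  have : π (algebraMap A B (e k)) = 0 := by
    rw [hcg (e k) 0 (by rw [he, map_zero]; exact hk), map_zero, map_zero]
  have h' : π k - π (algebraMap A B (e k)) = 0 := h0
  rw [this, sub_zero] at h'
  exact Ideal.Quotient.eq_zero_iff_mem.1 h'

/-- For `A → B` formally smooth, `L/L² → K/K²` is injective. -/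
theorem mem_sq_of_formallySmooth [Algebra.FormallySmooth A B] {l : A}
    (hl : l ∈ RingHom.ker (algebraMap A C))
    (h : algebraMap A B l ∈ RingHom.ker (algebraMap B C) ^ 2) : l ∈ RingHom.ker (algebraMap A C) ^ 2 := by
  set L := RingHom.ker (algebraMap A C) with hL
  let P := A ⧸ L ^ 2
  let M : Ideal P := L.map (Ideal.Quotient.mk (L ^ 2))
  have hM : IsNilpotent M := ⟨2, by
    show M ^ 2 = ⊥
    rw [← Ideal.map_pow, Ideal.map_quotient_self]⟩
  let q : P →ₐ[A] C := Ideal.Quotient.liftₐ (L ^ 2) (Algebra.ofId A C) fun a ha => Ideal.pow_le_self two_ne_zero ha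
  have hq : Function.Surjective q := fun c => by
    obtain ⟨a, ha⟩ := hAC c
    exact ⟨Ideal.Quotient.mk _ a, ha⟩
  have hker : RingHom.ker q = M := by
    ext x
    obtain ⟨a, rfl⟩ := Ideal.Quotient.mk_surjective x
    refine ⟨fun hx => Ideal.mem_map_of_mem _ (show a ∈ L from hx), fun hx => ?_⟩
    obtain ⟨a', ha', e⟩ := (Ideal.mem_map_iff_of_surjective _ Ideal.Quotient.mk_surjective).1 hx
    rw [← e]
    exact ha'
  let σ : B →ₐ[A] P := Algebra.FormallySmooth.liftOfSurjective (IsScalarTower.toAlgHom A B C) q hq (hker ▸ hM)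
  have hσ : ∀ b, q (σ b) = algebraMap B C b :=
    Algebra.FormallySmooth.liftOfSurjective_apply (IsScalarTower.toAlgHom A B C) q hq (hker ▸ hM)
  have hK : (RingHom.ker (algebraMap B C)).map σ.toRingHom ≤ M := Ideal.map_le_iff_le_comap.2 fun b hb => by
    rw [Ideal.mem_comap, ← hker, RingHom.mem_ker]
    exact (hσ b).trans hb
  have h2 : σ (algebraMap A B l) ∈ M ^ 2 := by
    have := Ideal.mem_map_of_mem σ.toRingHom h
    rw [Ideal.map_pow] at this
    exact Ideal.pow_right_mono hK 2 this
  rw [AlgHom.commutes, ← Ideal.map_pow, Ideal.map_quotient_self, Submodule.mem_bot] at h2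
  exact Ideal.Quotient.eq_zero_iff_mem.1 h2

end GrothLib.ConStalk4
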