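import Groth.Agent.Lib.ConStalk4.Maps
import Groth.Prelude.Def_MoreMor
import Mathlib.AlgebraicGeometry.Stalk

/-!
# Injectivity of `C_{X'/X} → j^*Ω_{X/Y}` for formally smooth `X' → Y`
-/

set_option autoImplicit false
set_option linter.style.haveILetI false
set_option backward.isDefEq.respectTransparency false
set_option maxHeartbeats 1000000

universe u

open CategoryTheory CategoryTheory.Limits AlgebraicGeometry Opposite TopologicalSpace
open scoped TensorProduct
open GrothLib GrothLib.OmegaUniv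

noncomputable section

namespace GrothLib.ConStalk4

variable {Z X Y : Scheme.{u}} (i : Z ⟶ X) (f : X ⟶ Y) [IsImmersion i]

/-- Infinitesimal lifting gives a section of `O_{X,iz}/K² → O_{Z,z}`. -/
theorem exists_section (hf : MoreMor.IsFormallySmoothHom (i ≫ f)) (z : Z) :
    ∃ σ : Z.presheaf.stalk z →+* X.presheaf.stalk (i z) ⧸ K i z ^ 2,
      (∀ b, σ ((i.stalkMap z).hom b) - Ideal.Quotient.mk _ b ∈ (K i z).map (Ideal.Quotient.mk (K i z ^ 2))) ∧
      ∀ a, σ ((i.stalkMap z).hom ((f.stalkMap (i z)).hom a)) = Ideal.Quotient.mk _ ((f.stalkMap (i z)).hom a) := by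
  let B := X.presheaf.stalk (i z)
  let π : B →+* B ⧸ K i z ^ 2 := Ideal.Quotient.mk _
  let I : Ideal (B ⧸ K i z ^ 2) := (K i z).map π
  have hI : I ^ 2 = ⊥ := by rw [← Ideal.map_pow, Ideal.map_quotient_self]
  have hKtop : K i z ≠ ⊤ := RingHom.ker_ne_top _
  haveI : Nontrivial (B ⧸ K i z ^ 2) :=
    Ideal.Quotient.nontrivial_iff.2 fun h => hKtop (top_le_iff.1 (h ▸ Ideal.pow_le_self two_ne_zero))
  haveI : IsLocalRing (B ⧸ K i z ^ 2) := IsLocalRing.of_surjective' π Ideal.Quotient.mk_surjective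
  let q : B ⧸ K i z ^ 2 →+* (B ⧸ K i z ^ 2) ⧸ I := Ideal.Quotient.mk I
  have hker : ∀ b, (q.comp π) b = 0 ↔ b ∈ K i z := fun b => by
    show Ideal.Quotient.mk I (π b) = 0 ↔ _
    rw [Ideal.Quotient.eq_zero_iff_mem, ← Ideal.mem_comap,
      Ideal.comap_map_of_surjective π Ideal.Quotient.mk_surjective, sup_eq_left.2]
    exact fun a ha => Ideal.pow_le_self two_ne_zero (Ideal.Quotient.eq_zero_iff_mem.1 ha)
  let ψ : Z.presheaf.stalk z →+* (B ⧸ K i z ^ 2) ⧸ I :=
    RingHom.liftOfSurjective (i.stalkMap z).hom (i.stalkMap_surjective z) ⟨q.comp π, fun b hb => (hker b).2 hb⟩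
  have hψ : ψ.comp (i.stalkMap z).hom = q.comp π := RingHom.liftOfRightInverse_comp _ _ _ _
  have hψinj : Function.Bijective ψ := by
    refine ⟨(injective_iff_map_eq_zero ψ).2 fun c hc => ?_, fun w => ?_⟩
    · obtain ⟨b, rfl⟩ := i.stalkMap_surjective z c
      exact (hker b).1 ((RingHom.congr_fun hψ b).symm.trans hc)
    · obtain ⟨b, rfl⟩ := Ideal.Quotient.mk_surjective w
      obtain ⟨b, rfl⟩ := Ideal.Quotient.mk_surjective b
      exact ⟨(i.stalkMap z).hom b, RingHom.congr_fun hψ b⟩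
  haveI : IsLocalHom (CommRingCat.ofHom ψ).hom :=
    ⟨fun a ha => (MulEquiv.isUnit_map (RingEquiv.ofBijective ψ hψinj)).1 ha⟩
  haveI : Nontrivial ((B ⧸ K i z ^ 2) ⧸ I) := Ideal.Quotient.nontrivial_iff.2 fun h => by
    have := (hker 1).1 (Ideal.Quotient.eq_zero_iff_mem.2 (h ▸ trivial))
    exact hKtop (Ideal.eq_top_of_isUnit_mem _ this isUnit_one)
  haveI : IsLocalRing ((B ⧸ K i z ^ 2) ⧸ I) := IsLocalRing.of_surjective' q Ideal.Quotient.mk_surjective
  haveI : IsLocalHom (CommRingCat.ofHom q).hom := IsLocalHom.of_surjective q Ideal.Quotient.mk_surjective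
  obtain ⟨l, hl₁, hl₂⟩ := hf (B ⧸ K i z ^ 2) I hI (Spec.map (CommRingCat.ofHom ψ) ≫ Z.fromSpecStalk z)
    (Spec.map (CommRingCat.ofHom π) ≫ X.fromSpecStalk (i z) ≫ f) (by
      have hcomm : Spec.map (CommRingCat.ofHom q) ≫ Spec.map (CommRingCat.ofHom π) =
          Spec.map (CommRingCat.ofHom ψ) ≫ Spec.map (i.stalkMap z) := by
        rw [← Spec.map_comp, ← Spec.map_comp]
        exact congrArg Spec.map (CommRingCat.hom_ext hψ.symm)
      rw [reassoc_of% hcomm, Scheme.SpecMap_stalkMap_fromSpecStalk_assoc]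
      simp only [Category.assoc])
  have hz : l (IsLocalRing.closedPoint (B ⧸ K i z ^ 2)) = z := by
    have h1 : (Spec.map (CommRingCat.ofHom q)) (IsLocalRing.closedPoint ((B ⧸ K i z ^ 2) ⧸ I)) =
        IsLocalRing.closedPoint (B ⧸ K i z ^ 2) := Spec_closedPoint
    rw [← h1, ← Scheme.Hom.comp_apply]
    refine (congr($hl₁ (IsLocalRing.closedPoint ((B ⧸ K i z ^ 2) ⧸ I)))).trans ?_
    rw [Scheme.Hom.comp_apply, Spec_closedPoint]
    exact Scheme.fromSpecStalk_closedPoint
  obtain ⟨σ, hσl⟩ : ∃ σ : Z.presheaf.stalk z ⟶ CommRingCat.of (B ⧸ K i z ^ 2),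
      Spec.map σ ≫ Z.fromSpecStalk z = l := by
    refine ⟨Z.presheaf.stalkSpecializes (specializes_of_eq hz) ≫ Scheme.stalkClosedPointTo l, ?_⟩
    rw [Spec.map_comp, Category.assoc, Scheme.SpecMap_stalkSpecializes_fromSpecStalk]
    exact Scheme.Spec_stalkClosedPointTo_fromSpecStalk l
  refine ⟨σ.hom, fun b => ?_, fun a => ?_⟩
  · have e : σ ≫ CommRingCat.ofHom q = CommRingCat.ofHom ψ := by
      apply Spec.map_injective
      rw [← cancel_mono (Z.fromSpecStalk z), Spec.map_comp, Category.assoc, hσl]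
      exact hl₁
    rw [← Ideal.Quotient.eq_zero_iff_mem, map_sub, sub_eq_zero]
    exact (congrArg (fun k => k.hom ((i.stalkMap z).hom b)) e).trans (RingHom.congr_fun hψ b)
  · have e : (f.stalkMap (i z) ≫ i.stalkMap z) ≫ σ = f.stalkMap (i z) ≫ CommRingCat.ofHom π := by
      apply Spec.map_injective
      rw [← cancel_mono (Y.fromSpecStalk (f (i z))), Spec.map_comp, Spec.map_comp, Spec.map_comp]
      simp only [Category.assoc, Scheme.SpecMap_stalkMap_fromSpecStalk, Scheme.SpecMap_stalkMap_fromSpecStalk_assoc]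
      rw [← hl₂, ← hσl]
      simp only [Category.assoc]
    exact congrArg (fun k => k.hom a) e

attribute [local instance] OmegaUniv.stalkAlg

/-- The first map of the conormal sequence is injective. -/
theorem mono_of_formallySmooth [QuasiCompact i] (hf : MoreMor.IsFormallySmoothHom (i ≫ f))
    {Ω : X.Modules} {d : OmegaSh.Der f Ω} (hd : OmegaSh.IsUniversal d)
    (φ : Omega.conormal i ⟶ (Scheme.Modules.pullback i).obj Ω) (hφ : OmegaSh.IsConormalDiff i d φ) : Mono φ := by
  rw [OX.mono_iff]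
  intro z
  rw [ModuleCat.mono_iff_injective]
  show Function.Injective (stalkLin z φ)
  refine stalkLin_conormalDiff_injective i z hd φ hφ fun k hk h => ?_
  obtain ⟨σ, hσ, hσA⟩ := exists_section i f hf z
  exact mem_sq_of_section (A := Y.presheaf.stalk (f (i z))) (B := X.presheaf.stalk (i z)) (C := Z.presheaf.stalk z)
    (i.stalkMap_surjective z) σ hσ hσA hk h

end GrothLib.ConStalk4
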