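import Groth.Agent.Lib.ConStalk4.SmoothPair
import Groth.Agent.Lib.ConStalk4.RankAt
import Groth.Agent.Lib.DimCut.Product
import Groth.Agent.Lib.GenericSmooth.Basic
import Groth.Agent.Lib.CotTangent.Scheme
import Groth.Agent.Lib.FibreDimAt6.Smooth
import Groth.Agent.Lib.CMFree.Regular

/-!
# Regular closed subschemes of smooth varieties
-/

set_option autoImplicit false
set_option linter.style.haveILetI false
set_option backward.isDefEq.respectTransparency false
set_option maxHeartbeats 1000000

universe u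

open CategoryTheory CategoryTheory.Limits AlgebraicGeometry Opposite TopologicalSpace
open scoped TensorProduct
open GrothLib GrothLib.OmegaUniv

noncomputable section

namespace GrothLib.ConStalk4

/-- Regular schemes of finite type over a perfect field are smooth. -/
theorem smooth_of_regular_perfect {k : Type u} [Field k] [PerfectField k] {X : Scheme.{u}}
    (f : X ⟶ Spec (CommRingCat.of k)) [LocallyOfFiniteType f]
    (hreg : ∀ x : X, IsRegularLocalRing (X.presheaf.stalk x)) : Smooth f := by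
  haveI : LocallyOfFinitePresentation f := inferInstance
  rw [← Scheme.Hom.smoothLocus_eq_top_iff, eq_top_iff]
  intro x _
  haveI := hreg x
  let p : Spec (CommRingCat.of k) := f x
  let φ : k →+* (Spec (CommRingCat.of k)).presheaf.stalk p :=
    ((Scheme.ΓSpecIso (CommRingCat.of k)).inv ≫ (Spec (CommRingCat.of k)).presheaf.germ ⊤ p trivial).hom
  have hφ : Function.Bijective φ := by
    refine ⟨φ.injective, fun y => ?_⟩
    obtain ⟨⟨a, s⟩, h⟩ := IsLocalization.surj (M := p.asIdeal.primeCompl)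
      (S := (Spec.structureSheaf k).presheaf.stalk p) y
    have hs : (s : k) ≠ 0 := fun h0 => s.2 (h0 ▸ p.asIdeal.zero_mem)
    refine ⟨(a : k) / (s : k), ?_⟩
    have h' : y * φ (s : k) = φ (a : k) := h
    refine ((((IsUnit.mk0 (s : k) hs).map φ).mul_left_inj).1 ?_)
    rw [h', ← map_mul]
    exact congrArg φ (div_mul_cancel₀ (a : k) hs)
  let e := RingEquiv.ofBijective φ hφ
  have hfld : IsField ((Spec (CommRingCat.of k)).presheaf.stalk p) :=
    MulEquiv.isField (Field.toIsField k) e.symm.toMulEquiv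
  refine GenericSmooth.mem_smoothLocus_of_regular f x hfld ?_
  letI := hfld.toField
  exact PerfectField.of_ringEquiv e

variable {Y X S : Scheme.{u}}

attribute [local instance] OmegaUniv.stalkAlg

/-- Stalks of finite locally free modules are free. -/
theorem free_St {M : Y.Modules} (hM : FlatMod.IsFinLocFree M) (y : Y) :
    Module.Free (Y.presheaf.stalk y) (St y M) := by
  obtain ⟨U, n, hy, ⟨i⟩⟩ := hM y
  obtain ⟨e, he⟩ := FinCov.exists_frame_of_iso i
  have hy' : y ∈ U.ι ''ᵁ ⊤ := by rw [Scheme.Opens.ι_image_top]; exact hy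
  let a : St y M ≃+ M.presheaf.stalk y := AddEquiv.refl _
  have ha : ∀ (r : Y.presheaf.stalk y) (m : St y M), a (r • m) = r • a m := by
    intro r m
    obtain ⟨V, hV, s, t, rfl, rfl⟩ := OX.germ_exists_smul (DCoh.toP.obj M) r m
    rw [← OX.germ_smul']
    exact Mero.germ_smul M V y hV s t
  let L : St y M ≃ₗ[Y.presheaf.stalk y] M.presheaf.stalk y := a.toLinearEquiv ha
  exact Module.Free.of_equiv
    ((LinearEquiv.ofBijective _ (Ref1.stalk_of_isFrame he y hy')).trans L.symm)

/-- Locally free differentials and an injective first map give smoothness. -/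
theorem smooth_of_finLocFree_mono (p : X ⟶ S) [Smooth p] (i : Y ⟶ X) [IsImmersion i] [QuasiCompact i]
    [LocallyOfFinitePresentation (i ≫ p)]
    {Ω : X.Modules} {d : OmegaSh.Der p Ω} (hd : OmegaSh.IsUniversal d)
    {ΩY : Y.Modules} {dY : OmegaSh.Der (i ≫ p) ΩY} (hY : OmegaSh.IsUniversal dY)
    (φ : Omega.conormal i ⟶ (Scheme.Modules.pullback i).obj Ω) (hφ : OmegaSh.IsConormalDiff i d φ)
    (hfree : FlatMod.IsFinLocFree ΩY) [Mono φ] : Smooth (i ≫ p) := by
  rw [← Scheme.Hom.smoothLocus_eq_top_iff, eq_top_iff]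
  intro y _
  rw [Scheme.Hom.mem_smoothLocus]
  have hinjφ : Function.Injective (stalkLin y φ) := by
    have h : ∀ z : Y, Mono ((OX.stalk z).map φ) := (OX.mono_iff φ).1 inferInstance
    exact (ModuleCat.mono_iff_injective _).1 (h y)
  have hR : (p.stalkMap (i y)).hom.FormallySmooth :=
    Scheme.Hom.mem_smoothLocus.1 (p.smoothLocus_eq_top.ge trivial)
  haveI : Algebra.FormallySmooth (S.presheaf.stalk (p (i y))) (X.presheaf.stalk (i y)) := hR
  haveI := free_St hfree y
  haveI hfreeK : Module.Free (Y.presheaf.stalk y) (Kah (i ≫ p) y) := Module.Free.of_equiv (stalkEquiv y hY)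
  letI : Algebra (S.presheaf.stalk (p (i y))) (Y.presheaf.stalk y) := stalkAlg (i ≫ p) y
  haveI : IsScalarTower (S.presheaf.stalk (p (i y))) (X.presheaf.stalk (i y)) (Y.presheaf.stalk y) :=
    IsScalarTower.of_algebraMap_eq fun a => stalkMap_comp_apply (p := p) i y a
  show Algebra.FormallySmooth (S.presheaf.stalk (p (i y))) (Y.presheaf.stalk y)
  haveI : Module.Projective (Y.presheaf.stalk y) Ω[Y.presheaf.stalk y⁄S.presheaf.stalk (p (i y))] :=
    @Module.Projective.of_free _ _ _ _ _ hfreeK
  refine ⟨inferInstance, ?_⟩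
  rw [← Algebra.FormallySmooth.kerCotangentToTensor_injective_iff (P := X.presheaf.stalk (i y))
    (i.stalkMap_surjective y)]
  refine (injective_iff_map_eq_zero _).2 fun e he => ?_
  obtain ⟨k, rfl⟩ := Ideal.toCotangent_surjective _ e
  have h1 : (1 : Y.presheaf.stalk y) ⊗ₜ[X.presheaf.stalk (i y)]
      KaehlerDifferential.D (S.presheaf.stalk (p (i y))) (X.presheaf.stalk (i y)) (k : X.presheaf.stalk (i y)) = 0 := he
  have h2 : stalkLin y φ (cls i y k) = 0 := (omegaEquiv i y hd).injective
    ((omegaEquiv_conormalDiff i y hd φ hφ k).trans (h1.trans (map_zero _).symm))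
  exact (Ideal.toCotangent_eq_zero _ _).2 ((cls_eq_zero_iff i y k).1 (hinjφ (h2.trans (map_zero _).symm)))

/-- The equivalence and the rank. -/
theorem regular_iff {k : Type u} [Field k] [IsAlgClosed k] (n q : ℕ) {X : Scheme.{u}} [IsIntegral X]
    (p : X ⟶ Spec (CommRingCat.of k)) [IsSeparated p] [LocallyOfFiniteType p]
    (hreg : ∀ x : X, IsRegularLocalRing (X.presheaf.stalk x)) (hn : topologicalKrullDim X = (n : WithBot ℕ∞))
    {Y : Scheme.{u}} (i : Y ⟶ X) [IsClosedImmersion i] [IrreducibleSpace Y]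
    (hq : topologicalKrullDim Y = (q : WithBot ℕ∞))
    (ΩX : X.Modules) (dX : OmegaSh.Der p ΩX) (hX : OmegaSh.IsUniversal dX)
    (ΩY : Y.Modules) (dY : OmegaSh.Der (i ≫ p) ΩY) (hY : OmegaSh.IsUniversal dY)
    (φ : Omega.conormal i ⟶ (Scheme.Modules.pullback i).obj ΩX) (hφ : OmegaSh.IsConormalDiff i dX φ) :
    ((∀ y : Y, IsRegularLocalRing (Y.presheaf.stalk y)) ↔ (FlatMod.IsFinLocFree ΩY ∧ Mono φ)) ∧
      ((∀ y : Y, IsRegularLocalRing (Y.presheaf.stalk y)) →
        FlatMod.IsFinLocFreeOfRank (n - q) (Omega.conormal i)) := by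
  haveI : Smooth p := smooth_of_regular_perfect p hreg
  refine ⟨⟨fun h => ?_, fun ⟨hf, hm⟩ y => ?_⟩, fun h => ?_⟩
  · haveI : Smooth (i ≫ p) := smooth_of_regular_perfect (i ≫ p) h
    exact ⟨Groth.Agent.S5018.result (i ≫ p) (formallySmooth_of_smooth _) ΩY dY hY,
      Groth.Agent.S5020.result i p (formallySmooth_of_smooth _) ΩX dX hX φ hφ⟩
  · haveI := hm
    haveI : Smooth (i ≫ p) := smooth_of_finLocFree_mono p i hX hY φ hφ hf
    exact CotTangent.isRegularLocalRing_stalk (i ≫ p) y
  · haveI : Smooth (i ≫ p) := smooth_of_regular_perfect (i ≫ p) h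
    haveI : ∀ y : Y, _root_.IsReduced (Y.presheaf.stalk y) := fun y => by
      haveI := h y
      haveI := CMFree.isDomain_of_isRegularLocalRing (Y.presheaf.stalk y)
      infer_instance
    haveI : IsReduced Y := isReduced_of_isReduced_stalk Y
    haveI : IsIntegral Y := isIntegral_of_irreducibleSpace_of_isReduced Y
    haveI := DimCut.smoothOfRelativeDimension p n hn
    haveI := DimCut.smoothOfRelativeDimension (i ≫ p) q hq
    intro y
    obtain ⟨U, r, hy, ⟨e⟩, hr⟩ := exists_free_conormal p i y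
    rw [FibreDimAt6.fibreDimAt_eq_of_smooth n p, FibreDimAt6.fibreDimAt_eq_of_smooth q (i ≫ p), ← Nat.cast_add] at hr
    have : n = q + r := by exact_mod_cast hr
    obtain rfl : r = n - q := by omega
    exact ⟨U, hy, ⟨e⟩⟩

end GrothLib.ConStalk4
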