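import Groth.Agent.Lib.ConStalk4.DiffMap
import Groth.Agent.Lib.ConStalk4.BaseChange
import Groth.Agent.Lib.K0Sub.LocFree
import Groth.Agent.Lib.K0Sub.RankNilp
import Groth.Agent.Lib.Euler.RankAdd
import Groth.Agent.Lib.OX.OneDegLocus
import Groth.Agent.Lib.CMMor6.Chart
import Groth.Agent.S5005
import Groth.Agent.S5018
import Groth.Agent.S5020
import Groth.Agent.S5022
import Groth.Agent.S5976
import Groth.Agent.S9370

/-!
# The conormal sheaf of a smooth subscheme
-/

set_option autoImplicit false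
set_option linter.style.haveILetI false
set_option backward.isDefEq.respectTransparency false
set_option maxHeartbeats 1000000

universe u

open CategoryTheory CategoryTheory.Limits AlgebraicGeometry Opposite TopologicalSpace
open GrothLib

noncomputable section

namespace GrothLib.ConStalk4

variable {X' X Y : Scheme.{u}}

theorem formallySmooth_of_smooth (g : X ⟶ Y) [Smooth g] : MoreMor.IsFormallySmoothHom g :=
  (Groth.Agent.S1486.result g).2 fun U V hU hV e => by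
    have := g.smooth_appLE hV hU e
    algebraize [(g.appLE V U e).hom]
    infer_instance

/-- Freeness near a point, with the rank the dimension of the fibre. -/
theorem exists_free_omega (g : X ⟶ Y) [Smooth g] (Ω : X.Modules) (d : OmegaSh.Der g Ω) (hd : OmegaSh.IsUniversal d)
    (x : X) : ∃ (U : X.Opens) (n : ℕ), x ∈ U ∧ Nonempty (Ω.restrict U.ι ≅ FlatMod.freeMod (↑U) n) ∧
      FlatMor.fibreDimAt g x = (n : WithBot ℕ∞) :=
  ((Groth.Agent.S5022.result g Ω d hd x).1 (g.smoothLocus_eq_top.ge trivial)).2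

/-- The rank of a module on a smaller open. -/
theorem isFinLocFreeOfRank_restrict_le {M : X.Modules} {V U : X.Opens} (hle : V ≤ U) {n : ℕ}
    (e : M.restrict U.ι ≅ FlatMod.freeMod (↑U) n) :
    FlatMod.IsFinLocFreeOfRank n ((Scheme.Modules.restrictFunctor V.ι).obj M) :=
  OX.isFinLocFreeOfRank_of_iso
    ((Scheme.Modules.restrictFunctor (X.homOfLE hle)).mapIso e.symm ≪≫
      ((Scheme.Modules.restrictFunctorComp (X.homOfLE hle) U.ι).app M).symm ≪≫
      (Scheme.Modules.restrictFunctorCongr (X.homOfLE_ι hle)).app M)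
    (OX.isFinLocFreeOfRank_restrict (X.homOfLE hle) (K0Sub.isFinLocFreeOfRank_freeMod n))

/-- The case of quasi-separated morphisms. -/
theorem exists_free_conormal (f : X ⟶ Y) [Smooth f] [QuasiSeparated f] (j : X' ⟶ X) [IsImmersion j] [QuasiCompact j]
    [Smooth (j ≫ f)] (x : X') :
    ∃ (U : X'.Opens) (n : ℕ), x ∈ U ∧ Nonempty ((Omega.conormal j).restrict U.ι ≅ FlatMod.freeMod (↑U) n) ∧
      FlatMor.fibreDimAt f (j x) = FlatMor.fibreDimAt (j ≫ f) x + (n : WithBot ℕ∞) := by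
  haveI : QuasiSeparated (j ≫ f) := inferInstance
  have hdX := Groth.Agent.S5005.result f
  have hdZ := Groth.Agent.S5005.result (j ≫ f)
  let φ := conormalDiff j (OmegaSh.dOmega f)
  have hφ := isConormalDiff_conormalDiff j (OmegaSh.dOmega f)
  haveI hmono : Mono φ := Groth.Agent.S5020.result j f (formallySmooth_of_smooth (j ≫ f)) _ _ hdX φ hφ
  obtain ⟨c, hc, -⟩ := Groth.Agent.S9370.result f (j ≫ f) j (𝟙 Y) (Category.comp_id _)
    _ _ hdX _ _ hdZ
  obtain ⟨hepi, him⟩ := Groth.Agent.S5976.result f j _ _ hdX _ _ hdZ φ hφ c hc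
  haveI := hepi
  have w : φ ≫ c = 0 := by
    have h : ∀ P : Subobject ((Scheme.Modules.pullback j).obj (Omega.sheaf f)), P = kernelSubobject c →
        P.arrow ≫ c = 0 := by
      rintro _ rfl
      exact kernelSubobject_arrow_comp c
    rw [← imageSubobject_arrow_comp φ, Category.assoc, h _ him, comp_zero]
  let S := ShortComplex.mk φ c w
  have hS : S.ShortExact := ShortComplex.ShortExact.mk' ((ShortComplex.exact_iff_image_eq_kernel S).2 him)
    hmono hepi
  have hΩX : FlatMod.IsFinLocFree (Omega.sheaf f) := fun y => by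
    obtain ⟨U, n, h1, h2, -⟩ := exists_free_omega f _ _ hdX y
    exact ⟨U, n, h1, h2⟩
  have hΩZ : FlatMod.IsFinLocFree (Omega.sheaf (j ≫ f)) := fun y => by
    obtain ⟨U, n, h1, h2, -⟩ := exists_free_omega (j ≫ f) _ _ hdZ y
    exact ⟨U, n, h1, h2⟩
  obtain ⟨U₁, n, hx₁, ⟨e₁⟩⟩ := K0Sub.isFinLocFree_ker S hS (OX.isFinLocFree_pullback j hΩX) hΩZ x
  obtain ⟨A, N, hxA, ⟨eA⟩, hN⟩ := exists_free_omega f _ _ hdX (j x)
  obtain ⟨U₃, m, hx₃, ⟨e₃⟩, hm⟩ := exists_free_omega (j ≫ f) _ _ hdZ x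
  refine ⟨U₁, n, hx₁, ⟨e₁⟩, ?_⟩
  let e₂ : ((Scheme.Modules.pullback j).obj (Omega.sheaf f)).restrict (j ⁻¹ᵁ A).ι ≅ FlatMod.freeMod _ N :=
    (OX.pullSquareIso j A).app _ ≪≫ (Scheme.Modules.pullback (j ∣_ A)).mapIso eA ≪≫ OX.pullFreeModIso _ N
  let V : X'.Opens := U₁ ⊓ j ⁻¹ᵁ A ⊓ U₃
  haveI : Mono S.f := hmono
  haveI : Epi S.g := hepi
  haveI : Mono (S.map (Scheme.Modules.restrictFunctor V.ι)).f :=
    inferInstanceAs (Mono ((Scheme.Modules.restrictFunctor V.ι).map S.f))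
  haveI : Epi (S.map (Scheme.Modules.restrictFunctor V.ι)).g :=
    inferInstanceAs (Epi ((Scheme.Modules.restrictFunctor V.ι).map S.g))
  have key := Euler.rank_add_of_shortExact (⟨x, ⟨⟨hx₁, hxA⟩, hx₃⟩⟩ : V)
    (S := S.map (Scheme.Modules.restrictFunctor V.ι))
    (ShortComplex.ShortExact.mk' (hS.exact.map _) inferInstance inferInstance)
    (n₁ := n) (n₂ := N) (n₃ := m)
    (isFinLocFreeOfRank_restrict_le (inf_le_left.trans inf_le_left) e₁)
    (isFinLocFreeOfRank_restrict_le (inf_le_left.trans inf_le_right) e₂)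
    (isFinLocFreeOfRank_restrict_le inf_le_right e₃)
  rw [hN, hm, key, Nat.cast_add, add_comm]

/-- The general case. -/
theorem exists_free_conormal' (f : X ⟶ Y) [Smooth f] (j : X' ⟶ X) [IsImmersion j] [QuasiCompact j]
    [Smooth (j ≫ f)] (x : X') :
    ∃ (U : X'.Opens) (n : ℕ), x ∈ U ∧ Nonempty ((Omega.conormal j).restrict U.ι ≅ FlatMod.freeMod (↑U) n) ∧
      FlatMor.fibreDimAt f (j x) = FlatMor.fibreDimAt (j ≫ f) x + (n : WithBot ℕ∞) := by
  obtain ⟨T, hT, hxT, -⟩ := exists_isAffineOpen_mem_and_subset (x := f (j x)) (U := (⊤ : Y.Opens)) trivial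
  obtain ⟨W, hW, hxW, hWT⟩ := exists_isAffineOpen_mem_and_subset (x := j x) (U := f ⁻¹ᵁ T) hxT
  let f' : (W : Scheme.{u}) ⟶ Y := W.ι ≫ f
  haveI : IsAffine (W : Scheme.{u}) := hW
  haveI : IsAffine (T : Scheme.{u}) := hT
  haveI : QuasiSeparated f' := by
    have e : f' = f.resLE T W hWT ≫ T.ι := (Scheme.Hom.resLE_comp_ι f hWT).symm
    rw [e]
    infer_instance
  haveI : Smooth f' := inferInstanceAs (Smooth (W.ι ≫ f))
  let j' := j ∣_ W
  haveI : IsImmersion j' := MorphismProperty.of_isPullback (P := @IsImmersion) (isPullback_morphismRestrict j W).flip ‹_›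
  haveI : QuasiCompact j' := MorphismProperty.of_isPullback (P := @QuasiCompact) (isPullback_morphismRestrict j W).flip ‹_›
  have he : j' ≫ f' = (j ⁻¹ᵁ W).ι ≫ (j ≫ f) := morphismRestrict_ι_assoc j W f
  haveI : Smooth (j' ≫ f') := by rw [he]; infer_instance
  let x' : (j ⁻¹ᵁ W : X'.Opens) := ⟨x, hxW⟩
  obtain ⟨U, n, hxU, ⟨e⟩, hn⟩ := exists_free_conormal f' j' x'
  obtain ⟨φ, hφ, -⟩ := existsUnique (i := j') (i' := j) (g := W.ι) (gZ := (j ⁻¹ᵁ W).ι)
    (isPullback_morphismRestrict j W).w.symm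
  haveI := isIso_of_flat (isPullback_morphismRestrict j W) φ hφ
  let a : (Omega.conormal j).restrict (j ⁻¹ᵁ W).ι ≅ Omega.conormal j' :=
    (Scheme.Modules.restrictFunctorIsoPullback _).app _ ≪≫ asIso φ
  let o : (U : Scheme.{u}) ⟶ X' := U.ι ≫ (j ⁻¹ᵁ W).ι
  let U' : X'.Opens := o.opensRange
  let b : (U' : Scheme.{u}) ⟶ (U : Scheme.{u}) := o.isoOpensRange.inv
  have hb : b ≫ o = U'.ι := by
    show o.isoOpensRange.inv ≫ o = _
    rw [Iso.inv_comp_eq, Scheme.Hom.isoOpensRange_hom_ι]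
  refine ⟨U', n, ⟨⟨x', hxU⟩, rfl⟩, ⟨?_⟩, ?_⟩
  · exact ((Scheme.Modules.restrictFunctorCongr hb.symm ≪≫ Scheme.Modules.restrictFunctorComp b o).app _) ≪≫
      (Scheme.Modules.restrictFunctor b).mapIso
        ((Scheme.Modules.restrictFunctorComp U.ι (j ⁻¹ᵁ W).ι).app _ ≪≫
          (Scheme.Modules.restrictFunctor U.ι).mapIso a ≪≫ e) ≪≫ DCoh.restrictFreeModIso _ n
  · have h1 : FlatMor.fibreDimAt f' (j' x') = FlatMor.fibreDimAt f (j x) := by
      refine (CMMor6.fibreDimAt_comp_flat_lqf W.ι f (j' x')).trans (congrArg _ ?_)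
      rw [← Scheme.Hom.comp_apply, morphismRestrict_ι, Scheme.Hom.comp_apply]
      rfl
    have h2 : FlatMor.fibreDimAt (j' ≫ f') x' = FlatMor.fibreDimAt (j ≫ f) x := by
      rw [he]
      exact CMMor6.fibreDimAt_comp_flat_lqf (j ⁻¹ᵁ W).ι (j ≫ f) x'
    rw [← h1, ← h2]
    exact hn

end GrothLib.ConStalk4
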