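import Groth.Agent.Lib.ConStalk4.Stalk
import Groth.Prelude.Def_Omega4

/-!
# Splitting of the conormal sequence for an immersion with a retraction
-/

set_option autoImplicit false
set_option linter.style.haveILetI false
set_option backward.isDefEq.respectTransparency false
set_option maxHeartbeats 1000000

universe u

open CategoryTheory CategoryTheory.Limits AlgebraicGeometry Opposite TopologicalSpace
open GrothLib
open GrothLib.IdealModSec (val)
open GrothLib.InvExt (mres fres)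

noncomputable section

namespace GrothLib.ConStalk4

variable {Z X S : Scheme.{u}} {f : X ⟶ S} {i : Z ⟶ X} {g : X ⟶ Z}

theorem appLE_congr' {A B : Scheme.{u}} {a b : A ⟶ B} (h : a = b) {U : B.Opens} {V : A.Opens}
    (e : V ≤ a ⁻¹ᵁ U) (e' : V ≤ b ⁻¹ᵁ U) (x : Γ(B, U)) : a.appLE U V e x = b.appLE U V e' x := by
  subst h; rfl

theorem appLE_comp_apply {A B D : Scheme.{u}} (a : A ⟶ B) (b : B ⟶ D) {U : D.Opens} {V : B.Opens}
    {W : A.Opens} (e₁ : V ≤ b ⁻¹ᵁ U) (e₂ : W ≤ a ⁻¹ᵁ V) (e₃ : W ≤ (a ≫ b) ⁻¹ᵁ U) (x : Γ(D, U)) :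
    a.appLE V W e₂ (b.appLE U V e₁ x) = (a ≫ b).appLE U W e₃ x := by
  rw [← Scheme.Hom.appLE_comp_appLE a b U V W e₁ e₂]
  rfl

theorem appLE_self {A : Scheme.{u}} {a : A ⟶ A} (h : a = 𝟙 A) {U V : A.Opens} (e : V ≤ a ⁻¹ᵁ U) (e' : V ≤ U)
    (x : Γ(A, U)) : a.appLE U V e x = fres A e' x := by
  subst h
  simp [Scheme.Hom.appLE]

theorem appLE_fres {A B : Scheme.{u}} (a : A ⟶ B) {U U' : B.Opens} {V : A.Opens} (e : V ≤ a ⁻¹ᵁ U')
    (h : U' ≤ U) (x : Γ(B, U)) : a.appLE U' V e (fres B h x) = a.appLE U V (e.trans (a.preimage_mono h)) x := by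
  show a.appLE U' V e (B.presheaf.map (homOfLE h).op x) = _
  rw [← CommRingCat.comp_apply, a.map_appLE]

theorem fres_appLE {A B : Scheme.{u}} (a : A ⟶ B) {U : B.Opens} {V V' : A.Opens} (e : V ≤ a ⁻¹ᵁ U)
    (h : V' ≤ V) (x : Γ(B, U)) : fres A h (a.appLE U V e x) = a.appLE U V' (h.trans e) x := by
  show A.presheaf.map (homOfLE h).op (a.appLE U V e x) = _
  rw [← CommRingCat.comp_apply, a.appLE_map]

theorem appLE_app_congr {A B : Scheme.{u}} {a b : A ⟶ B} (h : a = b) (U : B.Opens) (e : a ⁻¹ᵁ U ≤ b ⁻¹ᵁ U)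
    (x : Γ(B, U)) : a.app U x = A.presheaf.map (homOfLE e).op (b.app U x) := by
  subst h
  exact (InvExt.fres_self _).symm

theorem fres_app_fres {A B : Scheme.{u}} (a : A ⟶ B) {U V : B.Opens} (h : V ≤ U) (h' : a ⁻¹ᵁ U ≤ a ⁻¹ᵁ V)
    (x : Γ(B, U)) : fres A h' (a.app V (fres B h x)) = a.app U x := by
  rw [Scheme.Hom.app_eq_appLE, Scheme.Hom.app_eq_appLE, appLE_fres, fres_appLE]

variable (i g)

/-- The open on which the retraction of a function on `U` is defined. -/
abbrev rOpen (U : X.Opens) : X.Opens := U ⊓ (g ≫ i) ⁻¹ᵁ U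

/-- `s - g♯ i♯ s`. -/
def rDiff (U : X.Opens) : Γ(X, U) →+ Γ(X, rOpen i g U) :=
  (X.presheaf.map (homOfLE (inf_le_left : rOpen i g U ≤ U)).op).hom.toAddMonoidHom -
    ((g ≫ i).appLE U (rOpen i g U) inf_le_right).hom.toAddMonoidHom

theorem rDiff_apply (U : X.Opens) (s : Γ(X, U)) : rDiff i g U s =
    fres X (inf_le_left : rOpen i g U ≤ U) s - (g ≫ i).appLE U (rOpen i g U) inf_le_right s := rfl

variable {i g} (hgi : i ≫ g = 𝟙 Z)
include hgi

theorem comp_retraction : i ≫ g ≫ i = i := by rw [reassoc_of% hgi]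

theorem preimage_le_rOpen (U : X.Opens) : i ⁻¹ᵁ U ≤ i ⁻¹ᵁ rOpen i g U := fun x hx =>
  ⟨hx, show (g ≫ i) (i x) ∈ U by rw [← Scheme.Hom.comp_apply, comp_retraction hgi]; exact hx⟩

theorem app_rDiff (U : X.Opens) (s : Γ(X, U)) : i.app (rOpen i g U) (rDiff i g U s) = 0 := by
  rw [rDiff_apply, map_sub, sub_eq_zero, Scheme.Hom.app_eq_appLE, appLE_fres,
    appLE_comp_apply i (g ≫ i) _ _ (by rw [comp_retraction hgi]; exact i.preimage_mono inf_le_left) s]
  exact appLE_congr' (comp_retraction hgi).symm _ _ s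

variable [QuasiCompact i]

/-- The class of `s - g♯ i♯ s`. -/
def rCls (U : X.Opens) (s : Γ(X, U)) : Γ(Omega.conormal i, i ⁻¹ᵁ U) :=
  mres (Omega.conormal i) (preimage_le_rOpen hgi U)
    (OmegaSh.conormalSect i (rOpen i g U)
      (exists_val_of_app_eq_zero i (rOpen i g U) (rDiff i g U s) (app_rDiff hgi U s)).choose)

theorem rCls_eq (U : X.Opens) (s : Γ(X, U)) (k : Γ(ClSub.idealMod i.ker, rOpen i g U))
    (hk : val i.ker _ k = rDiff i g U s) :
    rCls hgi U s = mres (Omega.conormal i) (preimage_le_rOpen hgi U) (OmegaSh.conormalSect i (rOpen i g U) k) := by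
  have : (exists_val_of_app_eq_zero i (rOpen i g U) (rDiff i g U s) (app_rDiff hgi U s)).choose = k :=
    IdealModSec.val_injective i.ker _
      ((exists_val_of_app_eq_zero i (rOpen i g U) (rDiff i g U s) (app_rDiff hgi U s)).choose_spec.trans hk.symm)
  rw [rCls, this]

omit hgi in
theorem conormalSect_smul_mem (W : X.Opens) (c : Γ(X, W)) (k : Γ(ClSub.idealMod i.ker, W)) :
    OmegaSh.conormalSect i W (c • k) = i.app W c • OmegaSh.conormalSect i W k :=
  OmegaSh.pullSect_smul i (ClSub.idealMod i.ker) W c k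

theorem rCls_add (U : X.Opens) (s t : Γ(X, U)) : rCls hgi U (s + t) = rCls hgi U s + rCls hgi U t := by
  obtain ⟨k, hk⟩ := exists_val_of_app_eq_zero i _ _ (app_rDiff hgi U s)
  obtain ⟨l, hl⟩ := exists_val_of_app_eq_zero i _ _ (app_rDiff hgi U t)
  rw [rCls_eq hgi U s k hk, rCls_eq hgi U t l hl, rCls_eq hgi U (s + t) (k + l) (by
    show (ClSub.idealModι i.ker).app _ (k + l) = _
    rw [map_add, map_add]
    exact congrArg₂ (· + ·) hk hl)]
  show (Omega.conormal i).presheaf.map _ (OmegaSh.conormalSect i _ (k + l)) = _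
  rw [map_add, map_add]

theorem rCls_mul (U : X.Opens) (s t : Γ(X, U)) :
    rCls hgi U (s * t) = i.app U s • rCls hgi U t + i.app U t • rCls hgi U s := by
  obtain ⟨k, hk⟩ := exists_val_of_app_eq_zero i _ _ (app_rDiff hgi U s)
  obtain ⟨l, hl⟩ := exists_val_of_app_eq_zero i _ _ (app_rDiff hgi U t)
  let a := fres X (inf_le_left : rOpen i g U ≤ U) s
  let b := fres X (inf_le_left : rOpen i g U ≤ U) t
  rw [rCls_eq hgi U s k hk, rCls_eq hgi U t l hl,
    rCls_eq hgi U (s * t) (a • l + b • k + (-rDiff i g U s) • l) (by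
      show (ClSub.idealModι i.ker).app _ (a • l + b • k + (-rDiff i g U s) • l) = _
      rw [map_add, map_add]
      show val i.ker _ (a • l) + val i.ker _ (b • k) + val i.ker _ ((-rDiff i g U s) • l) = _
      rw [IdealModSec.val_smul, IdealModSec.val_smul, IdealModSec.val_smul, hk, hl, rDiff_apply, rDiff_apply,
        rDiff_apply, map_mul, show fres X (inf_le_left : rOpen i g U ≤ U) (s * t) = a * b from map_mul _ s t]
      ring)]
  rw [map_add, map_add, conormalSect_smul_mem, conormalSect_smul_mem, conormalSect_smul_mem, map_neg,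
    app_rDiff hgi, neg_zero, zero_smul, add_zero]
  refine (map_add ((Omega.conormal i).presheaf.map _).hom _ _).trans ?_
  exact congrArg₂ (· + ·)
    ((InvExt.mres_smul _ _ _ _).trans (congrArg (· • _) (fres_app_fres i _ _ s)))
    ((InvExt.mres_smul _ _ _ _).trans (congrArg (· • _) (fres_app_fres i _ _ t)))

theorem rCls_res {U U' : X.Opens} (h : U' ≤ U) (s : Γ(X, U)) :
    rCls hgi U' (fres X h s) = mres (Omega.conormal i) (i.preimage_mono h) (rCls hgi U s) := by
  obtain ⟨k, hk⟩ := exists_val_of_app_eq_zero i _ _ (app_rDiff hgi U s)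
  have hV : rOpen i g U' ≤ rOpen i g U := inf_le_inf h ((g ≫ i).preimage_mono h)
  rw [rCls_eq hgi U s k hk, rCls_eq hgi U' _ (mres (ClSub.idealMod i.ker) hV k) (by
    rw [IdealModSec.val_mres, hk, rDiff_apply, rDiff_apply]
    refine (map_sub (X.presheaf.map (homOfLE hV).op).hom _ _).trans ?_
    refine congrArg₂ (· - ·) ?_ ?_
    · exact (InvExt.fres_fres _ _ s).trans (InvExt.fres_fres _ _ s).symm
    · exact (fres_appLE (g ≫ i) _ hV s).trans (appLE_fres (g ≫ i) _ h s).symm), InvExt.mres_mres]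
  show mres _ _ (OmegaSh.pullSect i (ClSub.idealMod i.ker) _ ((ClSub.idealMod i.ker).presheaf.map _ k)) = _
  rw [OmegaSh.pullSect_map i (ClSub.idealMod i.ker) hV k]
  exact InvExt.mres_mres (Omega.conormal i) (i.preimage_mono hV) (preimage_le_rOpen hgi U') _

theorem rCls_base (hgS : g ≫ i ≫ f = f) (W : S.Opens) (c : Γ(S, W)) :
    rCls hgi (f ⁻¹ᵁ W) (f.app W c) = 0 := by
  rw [rCls_eq hgi _ _ 0 (by
    rw [IdealModSec.val_zero, rDiff_apply, Scheme.Hom.app_eq_appLE]
    symm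
    rw [sub_eq_zero, fres_appLE, appLE_comp_apply (g ≫ i) f _ _
      (by rw [Category.assoc, hgS]; exact inf_le_left) c]
    exact appLE_congr' (by rw [Category.assoc, hgS]) _ _ c)]
  show (Omega.conormal i).presheaf.map _ _ = 0
  rw [map_zero, map_zero]

/-- The derivation `s ↦ [s - g♯ i♯ s]`. -/
def retrDer (hgS : g ≫ i ≫ f = f) : OmegaSh.Der f ((Scheme.Modules.pushforward i).obj (Omega.conormal i)) where
  d {U} := AddMonoidHom.mk' (fun s => rCls hgi U.unop s) (fun s t => rCls_add hgi U.unop s t)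
  d_mul {U} s t := rCls_mul hgi U.unop s t
  d_map {U U'} h s := rCls_res hgi h.unop.le s
  d_app {W} c := rCls_base hgi hgS W.unop c

variable {Ω : X.Modules} {d : OmegaSh.Der f Ω} (hd : OmegaSh.IsUniversal d)

/-- The retraction `i^*Ω → C_{Z/X}`. -/
def retr (hgS : g ≫ i ≫ f = f) : (Scheme.Modules.pullback i).obj Ω ⟶ Omega.conormal i :=
  ((Scheme.Modules.pullbackPushforwardAdjunction i).homEquiv _ _).symm (hd _ (retrDer hgi hgS)).choose

theorem retr_pullSect (hgS : g ≫ i ≫ f = f) (U : X.Opens) (s : Γ(X, U)) :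
    (retr hgi hd hgS).app (i ⁻¹ᵁ U) (OmegaSh.pullSect i Ω U (d.app U s)) = rCls hgi U s := by
  let adj := Scheme.Modules.pullbackPushforwardAdjunction i
  refine (congr($((adj.homEquiv_unit _ _ (retr hgi hd hgS)).symm.trans
    (Equiv.apply_symm_apply (adj.homEquiv _ _) _)).app U (d.app U s))).trans ?_
  exact PresheafOfModules.Derivation.congr_d (hd _ (retrDer hgi hgS)).choose_spec.1 (X := op U) s

theorem comp_retr (hgS : g ≫ i ≫ f = f) (φ : Omega.conormal i ⟶ (Scheme.Modules.pullback i).obj Ω)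
    (hφ : OmegaSh.IsConormalDiff i d φ) : φ ≫ retr hgi hd hgS = 𝟙 _ := by
  refine PPGen.hom_ext_pullSect i (M := ClSub.idealMod i.ker) (G := Omega.conormal i) _ _ fun U m => ?_
  show (retr hgi hd hgS).app (i ⁻¹ᵁ U) (φ.app (i ⁻¹ᵁ U) (OmegaSh.conormalSect i U m)) = OmegaSh.conormalSect i U m
  rw [hφ U m, retr_pullSect]
  have hle : rOpen i g U ≤ U := inf_le_left
  rw [rCls_eq hgi U _ (mres (ClSub.idealMod i.ker) hle m) (by
    rw [IdealModSec.val_mres, rDiff_apply]
    have h0 : (g ≫ i).appLE U (rOpen i g U) inf_le_right (val i.ker U m) = 0 := by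
      refine (appLE_comp_apply g i (V := i ⁻¹ᵁ U) le_rfl inf_le_right inf_le_right (val i.ker U m)).symm.trans ?_
      rw [← Scheme.Hom.app_eq_appLE, H1Sheaf6.app_val_eq_zero, map_zero]
    exact ((congrArg (fres X hle (val i.ker U m) - ·) h0).trans (sub_zero _)).symm)]
  show mres _ _ (OmegaSh.pullSect i (ClSub.idealMod i.ker) _ ((ClSub.idealMod i.ker).presheaf.map _ m)) = _
  rw [OmegaSh.pullSect_map i (ClSub.idealMod i.ker) hle m]
  exact (InvExt.mres_mres (Omega.conormal i) (i.preimage_mono hle) (preimage_le_rOpen hgi U) _).trans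
    (InvExt.mres_self (Omega.conormal i) _)

omit [QuasiCompact i]

/-- `t ↦ i^*(d (g♯ t))`. -/
def sect (W : Z.Opens) (t : Γ(Z, W)) : Γ((Scheme.Modules.pullback i).obj Ω, W) :=
  mres ((Scheme.Modules.pullback i).obj Ω) (le_of_eq (by rw [← Scheme.Hom.comp_preimage, hgi]; rfl))
    (OmegaSh.pullSect i Ω (g ⁻¹ᵁ W) (d.app (g ⁻¹ᵁ W) (g.app W t)))

theorem fres_app (W : Z.Opens) (h : W ≤ i ⁻¹ᵁ (g ⁻¹ᵁ W)) (t : Γ(Z, W)) :
    fres Z h (i.app (g ⁻¹ᵁ W) (g.app W t)) = t := by
  rw [Scheme.Hom.app_eq_appLE, Scheme.Hom.app_eq_appLE, fres_appLE,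
    appLE_comp_apply i g _ _ (by rw [hgi]; exact le_rfl) t, appLE_self hgi _ le_rfl t, InvExt.fres_self]

/-- The derivation `t ↦ i^*(d (g♯ t))`. -/
def sectDer (hgS : g ≫ i ≫ f = f) : OmegaSh.Der (i ≫ f) ((Scheme.Modules.pullback i).obj Ω) where
  d {W} := AddMonoidHom.mk' (fun t => sect hgi (d := d) W.unop t) (fun s t => by
    simp only [sect, mres, map_add])
  d_mul {W} s t := by
    show sect hgi (d := d) W.unop (s * t) = (show Γ(Z, W.unop) from s) • sect hgi (d := d) W.unop t + (show Γ(Z, W.unop) from t) • sect hgi (d := d) W.unop s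
    simp only [sect]
    rw [map_mul]
    refine (congrArg (fun x => mres _ _ (OmegaSh.pullSect i Ω _ x)) (d.d_mul (X := op (g ⁻¹ᵁ W.unop)) _ _)).trans ?_
    show (((Scheme.Modules.pullback i).obj Ω).presheaf.map _) (OmegaSh.pullSect i Ω _
      (g.app W.unop s • d.app _ (g.app W.unop t) + g.app W.unop t • d.app _ (g.app W.unop s))) = _
    rw [map_add, map_add, OmegaSh.pullSect_smul, OmegaSh.pullSect_smul]
    exact congrArg₂ (· + ·)
      ((InvExt.mres_smul _ _ _ _).trans (congrArg (· • _) (fres_app hgi W.unop _ s)))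
      ((InvExt.mres_smul _ _ _ _).trans (congrArg (· • _) (fres_app hgi W.unop _ t)))
  d_map {W W'} h t := by
    show sect hgi (d := d) W'.unop (fres Z h.unop.le t) = mres _ h.unop.le (sect hgi (d := d) W.unop t)
    simp only [sect]
    have hg : g ⁻¹ᵁ W'.unop ≤ g ⁻¹ᵁ W.unop := g.preimage_mono h.unop.le
    rw [show g.app W'.unop (fres Z h.unop.le t) = X.presheaf.map (homOfLE hg).op (g.app W.unop t) from
      congr($(g.naturality (homOfLE h.unop.le).op) t)]
    refine (congrArg (fun x => mres _ _ (OmegaSh.pullSect i Ω _ x)) (d.d_map (homOfLE hg).op _)).trans ?_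
    refine (congrArg (mres _ _) (OmegaSh.pullSect_map i Ω hg (d.app _ (g.app W.unop t)))).trans ?_
    exact (InvExt.mres_mres _ _ _ _).trans (InvExt.mres_mres _ _ _ _).symm
  d_app {W} c := by
    show sect hgi (d := d) ((i ≫ f) ⁻¹ᵁ W.unop) ((i ≫ f).app W.unop c) = 0
    simp only [sect]
    have h : d.app (g ⁻¹ᵁ ((i ≫ f) ⁻¹ᵁ W.unop)) (g.app ((i ≫ f) ⁻¹ᵁ W.unop) ((i ≫ f).app W.unop c)) = 0 := by
      have e : g ⁻¹ᵁ ((i ≫ f) ⁻¹ᵁ W.unop) ≤ f ⁻¹ᵁ W.unop := by
        rw [← Scheme.Hom.comp_preimage, hgS]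
      rw [show g.app ((i ≫ f) ⁻¹ᵁ W.unop) ((i ≫ f).app W.unop c) =
          X.presheaf.map (homOfLE e).op (f.app W.unop c) by
        rw [← CommRingCat.comp_apply, ← Scheme.Hom.comp_app]
        exact appLE_app_congr hgS W.unop e c]
      refine (d.d_map (homOfLE e).op (f.app W.unop c)).trans ?_
      exact (congrArg (Ω.presheaf.map (homOfLE e).op) (d.d_app (X := W) c)).trans (map_zero _)
    rw [h, map_zero]
    exact map_zero _

/-- The section `Ω_{Z/S} → i^*Ω_{X/S}`. -/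
def secHom {ΩZ : Z.Modules} {dZ : OmegaSh.Der (i ≫ f) ΩZ} (hZ : OmegaSh.IsUniversal dZ) (hgS : g ≫ i ≫ f = f) :
    ΩZ ⟶ (Scheme.Modules.pullback i).obj Ω :=
  (hZ _ (sectDer hgi (d := d) hgS)).choose

theorem secHom_comp {ΩZ : Z.Modules} {dZ : OmegaSh.Der (i ≫ f) ΩZ} (hZ : OmegaSh.IsUniversal dZ)
    (hgS : g ≫ i ≫ f = f) (c : (Scheme.Modules.pullback i).obj Ω ⟶ ΩZ) (hc : OmegaSh.IsDiffCompat i d dZ c) :
    secHom hgi (d := d) hZ hgS ≫ c = 𝟙 _ := by
  refine PPGen.hom_ext_universal hZ _ _ fun W t => ?_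
  show c.app W ((secHom hgi (d := d) hZ hgS).app W (dZ.app W t)) = dZ.app W t
  have h := PresheafOfModules.Derivation.congr_d (hZ _ (sectDer hgi (d := d) hgS)).choose_spec.1 (X := op W) t
  refine (congrArg (c.app W) h).trans ?_
  show c.app W (sect hgi (d := d) W t) = _
  simp only [sect]
  have hle : W ≤ i ⁻¹ᵁ (g ⁻¹ᵁ W) := le_of_eq (by rw [← Scheme.Hom.comp_preimage, hgi]; rfl)
  refine (congr($((Scheme.Modules.Hom.mapPresheaf c).naturality (homOfLE hle).op)
    (OmegaSh.pullSect i Ω (g ⁻¹ᵁ W) (d.app _ (g.app W t))))).trans ?_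
  show ΩZ.presheaf.map (homOfLE hle).op (c.app _ (OmegaSh.pullSect i Ω (g ⁻¹ᵁ W) (d.app _ (g.app W t)))) = _
  rw [hc]
  refine (dZ.d_map (homOfLE hle).op _).symm.trans ?_
  exact congrArg (dZ.app W) (fres_app hgi W hle t)

end GrothLib.ConStalk4
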