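import Groth.Agent.Lib.ConStalk4.Alg
import Groth.Agent.Lib.H1Sheaf6.Conormal
import Groth.Agent.Lib.OX.PullbackTensor
import Groth.Agent.Lib.OmegaUniv.Stalk
import Groth.Agent.Lib.OX.Exact
import Groth.Agent.Lib.PPGen.DiffBasic
import Groth.Prelude.Def_Omega3
import Mathlib.AlgebraicGeometry.Morphisms.Immersion

/-!
# Stalks of conormal sheaves and of pulled back sheaves of differentials
-/

set_option autoImplicit false
set_option linter.style.haveILetI false
set_option backward.isDefEq.respectTransparency false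
set_option maxHeartbeats 1000000

universe u

open CategoryTheory CategoryTheory.Limits AlgebraicGeometry Opposite TopologicalSpace
open scoped TensorProduct
open GrothLib GrothLib.OmegaUniv
open GrothLib.IdealModSec (val)

noncomputable section

namespace GrothLib.ConStalk4

variable {X Z : Scheme.{u}}

/-- The map on stalks of a morphism of modules. -/
def stalkLin (z : Z) {M N : Z.Modules} (φ : M ⟶ N) : St z M →ₗ[Z.presheaf.stalk z] St z N :=
  ((OX.stalk z).map φ).hom

theorem stalkLin_germ (z : Z) {M N : Z.Modules} (φ : M ⟶ N) (U : Z.Opens) (hz : z ∈ U) (m : Γ(M, U)) :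
    stalkLin z φ (OX.germ (DCoh.toP.obj M) U hz m) = OX.germ (DCoh.toP.obj N) U hz (φ.app U m) :=
  TopCat.Presheaf.stalkFunctor_map_germ_apply (F := M.presheaf) (G := N.presheaf) U z hz
    (Scheme.Modules.Hom.mapPresheaf φ) m

/-- A function killed by `i` is a section of the ideal. -/
theorem exists_val_of_app_eq_zero (i : Z ⟶ X) [QuasiCompact i] (V : X.Opens) (a : Γ(X, V))
    (ha : i.app V a = 0) : ∃ k : Γ(ClSub.idealMod i.ker, V), val i.ker V k = a := by
  refine (IdealModSec.app_kernel (ClSub.toSubscheme i.ker) V).2 a ?_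
  show i.ker.subschemeι.app V a = 0
  choose A hA hxA hAV using fun x : V => Opens.isBasis_iff_nbhd.mp X.isBasis_affineOpens x.2
  refine i.ker.subscheme.sheaf.eq_of_locally_eq' (fun x : V => i.ker.subschemeι ⁻¹ᵁ A x)
    (i.ker.subschemeι ⁻¹ᵁ V) (fun x => homOfLE (i.ker.subschemeι.preimage_mono (hAV x)))
    (fun y hy => Opens.mem_iSup.2 ⟨⟨_, hy⟩, hxA _⟩) _ _ fun x => ?_
  refine Eq.trans ?_ (map_zero (i.ker.subscheme.presheaf.map _).hom).symm
  refine (congr($(i.ker.subschemeι.naturality (homOfLE (hAV x)).op) a)).symm.trans ?_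
  show i.ker.subschemeι.app (A x) (X.presheaf.map (homOfLE (hAV x)).op a) = 0
  have hmem : X.presheaf.map (homOfLE (hAV x)).op a ∈ i.ker.ideal ⟨A x, hA x⟩ := by
    rw [Scheme.Hom.ker_apply, RingHom.mem_ker]
    refine (congr($(i.naturality (homOfLE (hAV x)).op) a)).trans ?_
    exact (congrArg (Z.presheaf.map (homOfLE (i.preimage_mono (hAV x))).op) ha).trans (map_zero _)
  rw [← i.ker.ker_subschemeι_app ⟨A x, hA x⟩] at hmem
  exact hmem

section Ideal

variable (i : Z ⟶ X) (z : Z)

/-- The germ in `O_{X,iz}` of a germ of the ideal. -/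
def vFun (e : St (i z) (ClSub.idealMod i.ker)) : X.presheaf.stalk (i z) :=
  X.presheaf.germ (OX.germ_exists (x := i z) _ e).choose (i z)
    (OX.germ_exists (x := i z) _ e).choose_spec.choose
    (val i.ker _ (OX.germ_exists (x := i z) _ e).choose_spec.choose_spec.choose)

theorem vFun_germ (U : X.Opens) (hU : i z ∈ U) (m : Γ(ClSub.idealMod i.ker, U)) :
    vFun i z (OX.germ (DCoh.toP.obj (ClSub.idealMod i.ker)) U hU m) = X.presheaf.germ U (i z) hU (val i.ker U m) := by
  set e := OX.germ (DCoh.toP.obj (ClSub.idealMod i.ker)) U hU m with he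
  obtain ⟨W, hW, iV, iU, h⟩ := TopCat.Presheaf.germ_eq (OX.prs (DCoh.toP.obj (ClSub.idealMod i.ker))) (i z)
    (OX.germ_exists _ e).choose_spec.choose hU _ m (OX.germ_exists _ e).choose_spec.choose_spec.choose_spec
  show X.presheaf.germ _ (i z) _ (val i.ker _ _) = _
  rw [← X.presheaf.germ_res_apply iV (i z) hW, ← X.presheaf.germ_res_apply iU (i z) hW]
  refine congrArg (X.presheaf.germ W (i z) hW) ?_
  exact (IdealModSec.val_mres i.ker iV.le _).symm.trans
    ((congrArg (val i.ker W) h).trans (IdealModSec.val_mres i.ker iU.le m))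

/-- The inclusion of the stalk of the ideal. -/
def vLin : St (i z) (ClSub.idealMod i.ker) →ₗ[X.presheaf.stalk (i z)] X.presheaf.stalk (i z) where
  toFun := vFun i z
  map_add' e e' := by
    obtain ⟨U, hU, m, m', rfl, rfl⟩ := OX.germ_exists₂ (DCoh.toP.obj (ClSub.idealMod i.ker))
      (DCoh.toP.obj (ClSub.idealMod i.ker)) e e'
    rw [← map_add]
    refine (vFun_germ i z U hU _).trans ?_
    rw [vFun_germ i z U hU m, vFun_germ i z U hU m', ← map_add]
    exact congrArg _ (map_add ((ClSub.idealModι i.ker).app U).hom m m')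
  map_smul' r e := by
    obtain ⟨U, hU, s, m, rfl, rfl⟩ := OX.germ_exists_smul (DCoh.toP.obj (ClSub.idealMod i.ker)) r e
    rw [← OX.germ_smul', RingHom.id_apply, vFun_germ i z U hU m]
    refine (vFun_germ i z U hU _).trans ?_
    rw [smul_eq_mul, ← map_mul]
    exact congrArg _ (IdealModSec.val_smul i.ker U s m)

theorem vLin_germ (U : X.Opens) (hU : i z ∈ U) (m : Γ(ClSub.idealMod i.ker, U)) :
    vLin i z (OX.germ (DCoh.toP.obj (ClSub.idealMod i.ker)) U hU m) = X.presheaf.germ U (i z) hU (val i.ker U m) :=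
  vFun_germ i z U hU m

theorem vLin_injective : Function.Injective (vLin i z) := by
  refine (injective_iff_map_eq_zero _).2 fun e he => ?_
  obtain ⟨U, hU, m, rfl⟩ := OX.germ_exists _ e
  rw [vLin_germ, ← map_zero (X.presheaf.germ U (i z) hU).hom] at he
  obtain ⟨W, hW, iV, iU, h⟩ := X.presheaf.germ_eq (i z) hU hU _ _ he
  rw [map_zero] at h
  have h0 : InvExt.mres (ClSub.idealMod i.ker) iV.le m = 0 := IdealModSec.val_injective i.ker W (by
    rw [IdealModSec.val_mres, IdealModSec.val_zero]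
    exact h)
  exact (OX.germ_map (DCoh.toP.obj (ClSub.idealMod i.ker)) iV hW m).symm.trans
    ((congrArg _ h0).trans (map_zero _))

/-- The kernel of `O_{X,iz} → O_{Z,z}`. -/
abbrev K : Ideal (X.presheaf.stalk (i z)) := RingHom.ker (i.stalkMap z).hom

variable [IsImmersion i] [QuasiCompact i]

theorem range_vLin : LinearMap.range (vLin i z) = K i z := by
  refine le_antisymm ?_ fun b hb => ?_
  · rintro _ ⟨e, rfl⟩
    obtain ⟨U, hU, m, rfl⟩ := OX.germ_exists _ e
    rw [vLin_germ]
    exact H1Sheaf6.stalkMap_germ_val i U m z hU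
  · obtain ⟨U, hU, s, rfl⟩ := X.presheaf.exists_germ_eq b
    have hb' : Z.presheaf.germ (i ⁻¹ᵁ U) z hU (i.app U s) = Z.presheaf.germ (i ⁻¹ᵁ U) z hU 0 := by
      rw [map_zero, ← Scheme.Hom.germ_stalkMap_apply i U z hU s]
      exact hb
    obtain ⟨O, hzO, iO, iO', hO⟩ := Z.presheaf.germ_eq z hU hU _ _ hb'
    obtain ⟨U', hU', hUeq⟩ := i.isEmbedding.isInducing.isOpen_iff.1 O.2
    have hzU' : i z ∈ U' := by
      show z ∈ i ⁻¹' U'
      rw [hUeq]; exact hzO
    obtain ⟨A, hA, hzA, hAU⟩ := Opens.isBasis_iff_nbhd.mp X.isBasis_affineOpens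
      (show i z ∈ U ⊓ ⟨U', hU'⟩ from ⟨hU, hzU'⟩)
    have hAU₁ : A ≤ U := hAU.trans inf_le_left
    have hAO : i ⁻¹ᵁ A ≤ O := fun y hy => hUeq.le (hAU hy).2
    obtain ⟨k, hk⟩ := exists_val_of_app_eq_zero i A (X.presheaf.map (homOfLE hAU₁).op s) (by
      refine (congr($(i.naturality (homOfLE hAU₁).op) s)).trans ?_
      show Z.presheaf.map (homOfLE (i.preimage_mono hAU₁)).op (i.app U s) = 0
      rw [show (homOfLE (i.preimage_mono hAU₁)).op = iO.op ≫ (homOfLE hAO).op from Subsingleton.elim _ _,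
        Functor.map_comp, CommRingCat.comp_apply, hO, map_zero, map_zero])
    exact ⟨OX.germ _ A hzA k, by rw [vLin_germ, hk, X.presheaf.germ_res_apply]⟩

/-- The stalk of the ideal. -/
def idealStalkEquiv : St (i z) (ClSub.idealMod i.ker) ≃ₗ[X.presheaf.stalk (i z)] K i z :=
  (LinearEquiv.ofInjective (vLin i z) (vLin_injective i z)).trans (LinearEquiv.ofEq _ _ (range_vLin i z))

attribute [local instance] OmegaUniv.stalkAlg

/-- The stalk of the conormal sheaf as a base change. -/
def conEquiv : St z (Omega.conormal i) ≃ₗ[Z.presheaf.stalk z]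
    Z.presheaf.stalk z ⊗[X.presheaf.stalk (i z)] St (i z) (ClSub.idealMod i.ker) :=
  ((OX.pullStalkIso i z).app (ClSub.idealMod i.ker)).toLinearEquiv

/-- The class of an element of the kernel of `O_{X,iz} → O_{Z,z}` in the stalk of the conormal sheaf. -/
def cls : K i z →+ St z (Omega.conormal i) where
  toFun k := (conEquiv i z).symm ((1 : Z.presheaf.stalk z) ⊗ₜ (idealStalkEquiv i z).symm k)
  map_zero' := by rw [map_zero, TensorProduct.tmul_zero, map_zero]
  map_add' k k' := by rw [map_add, TensorProduct.tmul_add, map_add]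

theorem cls_germ (U : X.Opens) (hU : i z ∈ U) (m : Γ(ClSub.idealMod i.ker, U))
    (hk : X.presheaf.germ U (i z) hU (val i.ker U m) ∈ K i z) :
    cls i z ⟨_, hk⟩ = OX.germ (DCoh.toP.obj (Omega.conormal i)) (i ⁻¹ᵁ U) hU (OmegaSh.conormalSect i U m) := by
  have he : (idealStalkEquiv i z).symm ⟨_, hk⟩ = OX.germ (DCoh.toP.obj (ClSub.idealMod i.ker)) U hU m := by
    rw [LinearEquiv.symm_apply_eq]
    exact Subtype.ext (vLin_germ i z U hU m).symm
  show (conEquiv i z).symm ((1 : Z.presheaf.stalk z) ⊗ₜ (idealStalkEquiv i z).symm ⟨_, hk⟩) = _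
  rw [he, LinearEquiv.symm_apply_eq]
  exact (OX.pullStalkIso_germ i z (ClSub.idealMod i.ker) U hU m).symm

theorem cls_smul (b : X.presheaf.stalk (i z)) (k : K i z) :
    cls i z (b • k) = (i.stalkMap z).hom b • cls i z k := by
  show (conEquiv i z).symm (_ ⊗ₜ (idealStalkEquiv i z).symm (b • k)) =
    _ • (conEquiv i z).symm ((1 : Z.presheaf.stalk z) ⊗ₜ (idealStalkEquiv i z).symm k)
  rw [map_smul, TensorProduct.tmul_smul, ← algebraMap_smul (Z.presheaf.stalk z) b, map_smul]
  rfl

theorem cls_surjective : Function.Surjective (cls i z) := fun e => by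
  obtain ⟨m, hm⟩ := FormalFun.exists_one_tmul (Z.presheaf.stalk z) (i.stalkMap_surjective z) (conEquiv i z e)
  refine ⟨idealStalkEquiv i z m, ?_⟩
  show (conEquiv i z).symm (_ ⊗ₜ (idealStalkEquiv i z).symm (idealStalkEquiv i z m)) = e
  rw [LinearEquiv.symm_apply_apply, hm, LinearEquiv.symm_apply_apply]

theorem cls_eq_zero_iff (k : K i z) : cls i z k = 0 ↔ (k : X.presheaf.stalk (i z)) ∈ K i z ^ 2 := by
  constructor
  · intro h
    have h1 : (1 : Z.presheaf.stalk z) ⊗ₜ[X.presheaf.stalk (i z)] (idealStalkEquiv i z).symm k = 0 := by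
      have := congrArg (conEquiv i z) h
      rw [map_zero] at this
      exact ((conEquiv i z).apply_symm_apply _).symm.trans this
    have h2 := Submodule.mem_map_of_mem (f := vLin i z)
      (FormalFun.mem_smul_top_of_one_tmul_eq_zero (Z.presheaf.stalk z) (i.stalkMap_surjective z) h1)
    rw [Submodule.map_smul'', Submodule.map_top, range_vLin] at h2
    rw [pow_two]
    have h3 : vLin i z ((idealStalkEquiv i z).symm k) = k :=
      congrArg Subtype.val ((idealStalkEquiv i z).apply_symm_apply k)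
    exact h3 ▸ h2
  · intro h
    suffices H : ∀ b ∈ K i z * K i z, ∃ hb : b ∈ K i z, cls i z ⟨b, hb⟩ = 0 from
      (H _ (by rw [← pow_two]; exact h)).2
    intro b hb
    refine Submodule.mul_induction_on hb (fun a ha c hc => ⟨Ideal.mul_mem_left _ a hc, ?_⟩) fun a c ha hc => ?_
    · refine (cls_smul i z a ⟨c, hc⟩).trans ?_
      rw [show (i.stalkMap z).hom a = 0 from ha, zero_smul]
    · obtain ⟨ha₁, ha₂⟩ := ha
      obtain ⟨hc₁, hc₂⟩ := hc
      refine ⟨add_mem ha₁ hc₁, ?_⟩
      have e := (cls i z).map_add (⟨a, ha₁⟩ : K i z) (⟨c, hc₁⟩ : K i z)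
      rw [ha₂, hc₂, add_zero] at e
      exact e

end Ideal

end GrothLib.ConStalk4
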