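import Groth.Agent.Lib.ConStalk4.Maps
import Groth.Agent.Lib.ConStalk4.Seq

/-!
# The sequence `j^*C_{Y/X} → C_{Z/X} → C_{Z/Y} → 0` of two immersions
-/

set_option autoImplicit false
set_option linter.style.haveILetI false
set_option backward.isDefEq.respectTransparency false
set_option maxHeartbeats 1000000

universe u

open CategoryTheory CategoryTheory.Limits AlgebraicGeometry Opposite TopologicalSpace
open GrothLib GrothLib.OmegaUniv
open GrothLib.IdealModSec (val)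

noncomputable section

namespace GrothLib.ConStalk4

variable {Z Y X : Scheme.{u}} {f : Y ⟶ X} [IsImmersion f] [QuasiCompact f] {j : Z ⟶ Y} [IsImmersion j]
  [QuasiCompact j] (φ₁ : (Scheme.Modules.pullback j).obj (Omega.conormal f) ⟶ Omega.conormal (j ≫ f))
  (hφ₁ : OmegaSh.IsConormalMap (j ≫ f) f (𝟙 X) j φ₁)
  (φ₂ : (Scheme.Modules.pullback (𝟙 Z)).obj (Omega.conormal (j ≫ f)) ⟶ Omega.conormal j)
  (hφ₂ : OmegaSh.IsConormalMap j (j ≫ f) f (𝟙 Z) φ₂)

include hφ₁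

/-- The first map on the generating sections. -/
theorem transMap_app (U : X.Opens) (m : Γ(ClSub.idealMod f.ker, U)) :
    ∃ s : Γ(ClSub.idealMod (j ≫ f).ker, U), val (j ≫ f).ker U s = val f.ker U m ∧
      φ₁.app ((j ≫ f) ⁻¹ᵁ U)
          (OmegaSh.pullSect j (Omega.conormal f) (f ⁻¹ᵁ U) (OmegaSh.conormalSect f U m)) =
        OmegaSh.conormalSect (j ≫ f) U s := by
  obtain ⟨s, hs⟩ := exists_val_of_app_eq_zero (j ≫ f) U (val f.ker U m) (by
    rw [Scheme.Hom.comp_app, CommRingCat.comp_apply, H1Sheaf6.app_val_eq_zero, map_zero])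
  refine ⟨s, hs, ?_⟩
  exact (InvExt.mres_self (Omega.conormal (j ≫ f)) (V := (j ≫ f) ⁻¹ᵁ U) _).symm.trans
    ((hφ₁.2 U m s hs ((j ≫ f) ⁻¹ᵁ U) le_rfl le_rfl).trans
      (InvExt.mres_self (Omega.conormal (j ≫ f)) (V := (j ≫ f) ⁻¹ᵁ U) _))

include hφ₂

theorem trans_comp : φ₁ ≫ unId φ₂ = 0 := by
  let adj := Scheme.Modules.pullbackPushforwardAdjunction j
  refine (adj.homEquiv _ _).injective (PPGen.hom_ext_pullSect f (M := ClSub.idealMod f.ker)
    (G := (Scheme.Modules.pushforward j).obj (Omega.conormal j)) _ _ fun U m => ?_)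
  refine (congr($(adj.homEquiv_unit _ _ (φ₁ ≫ unId φ₂)).app (f ⁻¹ᵁ U) (OmegaSh.conormalSect f U m))).trans
    (Eq.trans ?_ (congr($(adj.homEquiv_unit _ _ (0 : (Scheme.Modules.pullback j).obj (Omega.conormal f) ⟶
      Omega.conormal j)).app (f ⁻¹ᵁ U) (OmegaSh.conormalSect f U m))).symm)
  show (unId φ₂).app _ (φ₁.app ((j ≫ f) ⁻¹ᵁ U)
    (OmegaSh.pullSect j (Omega.conormal f) (f ⁻¹ᵁ U) (OmegaSh.conormalSect f U m))) = 0
  obtain ⟨s, hs, hs'⟩ := transMap_app φ₁ hφ₁ U m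
  obtain ⟨t, ht, ht'⟩ := conormalMap_app f j φ₂ hφ₂ U s
  have ht0 : t = 0 := IdealModSec.val_injective j.ker _ (by
    rw [ht, hs, H1Sheaf6.app_val_eq_zero, IdealModSec.val_zero])
  refine (congrArg ((unId φ₂).app _) hs').trans (ht'.trans ?_)
  rw [ht0]
  exact map_zero _

omit hφ₁ in
theorem epi_unId_trans : Epi (unId φ₂) := by
  rw [OX.epi_iff]
  intro z
  rw [ModuleCat.epi_iff_surjective]
  show Function.Surjective (stalkLin z (unId φ₂))
  intro e
  obtain ⟨k, rfl⟩ := cls_surjective j z e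
  obtain ⟨a, ha⟩ := f.stalkMap_surjective (j z) (k : Y.presheaf.stalk (j z))
  have haK : a ∈ K (j ≫ f) z := by
    show ((j ≫ f).stalkMap z).hom a = 0
    rw [stalkMap_comp_apply (p := f) j z a, ha]
    exact k.2
  exact ⟨cls (j ≫ f) z ⟨a, haK⟩,
    (stalkLin_conormalMap_cls f j z φ₂ hφ₂ ⟨a, haK⟩).trans (congrArg _ (Subtype.ext ha))⟩

theorem trans_exact (w : φ₁ ≫ unId φ₂ = 0) : (ShortComplex.mk φ₁ (unId φ₂) w).Exact := by
  rw [OX.exact_iff]
  intro z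
  rw [ShortComplex.moduleCat_exact_iff]
  intro (e : St z (Omega.conormal (j ≫ f))) (he : stalkLin z (unId φ₂) e = 0)
  show ∃ e', stalkLin z φ₁ e' = e
  obtain ⟨l, rfl⟩ := cls_surjective (j ≫ f) z e
  have he' : (f.stalkMap (j z)).hom (l : X.presheaf.stalk ((j ≫ f) z)) ∈ K j z ^ 2 :=
    (cls_eq_zero_iff j z _).1 ((stalkLin_conormalMap_cls f j z φ₂ hφ₂ l).symm.trans he)
  have hmap : (K (j ≫ f) z).map (f.stalkMap (j z)).hom = K j z := by
    have : K (j ≫ f) z = (K j z).comap (f.stalkMap (j z)).hom := by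
      ext a
      show ((j ≫ f).stalkMap z).hom a = 0 ↔ (j.stalkMap z).hom ((f.stalkMap (j z)).hom a) = 0
      rw [stalkMap_comp_apply (p := f) j z a]
    rw [this]
    exact Ideal.map_comap_of_surjective _ (f.stalkMap_surjective (j z)) _
  rw [← hmap, ← Ideal.map_pow] at he'
  obtain ⟨q, hq, hqe⟩ := (Ideal.mem_map_iff_of_surjective _ (f.stalkMap_surjective (j z))).1 he'
  let lv : X.presheaf.stalk (f (j z)) := (l : X.presheaf.stalk ((j ≫ f) z))
  let qv : X.presheaf.stalk (f (j z)) := q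
  have hiK : lv - qv ∈ K f (j z) := by
    show (f.stalkMap (j z)).hom (lv - qv) = 0
    exact (map_sub _ _ _).trans (sub_eq_zero.2 hqe.symm)
  obtain ⟨U, hU, m, hm⟩ := OX.germ_exists _ ((idealStalkEquiv f (j z)).symm ⟨_, hiK⟩)
  have hval : X.presheaf.germ U (f (j z)) hU (val f.ker U m) = lv - qv := by
    rw [← vLin_germ f (j z) U hU m, hm]
    exact congrArg Subtype.val ((idealStalkEquiv f (j z)).apply_symm_apply _)
  obtain ⟨s, hs, hs'⟩ := transMap_app φ₁ hφ₁ U m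
  refine ⟨OX.germ (DCoh.toP.obj ((Scheme.Modules.pullback j).obj (Omega.conormal f))) ((j ≫ f) ⁻¹ᵁ U) hU
    (OmegaSh.pullSect j (Omega.conormal f) (f ⁻¹ᵁ U) (OmegaSh.conormalSect f U m)), ?_⟩
  refine (stalkLin_germ z φ₁ ((j ≫ f) ⁻¹ᵁ U) hU _).trans ?_
  refine (congrArg (OX.germ (DCoh.toP.obj (Omega.conormal (j ≫ f))) ((j ≫ f) ⁻¹ᵁ U) hU) hs').trans ?_
  have hsK : X.presheaf.germ U ((j ≫ f) z) hU (val (j ≫ f).ker U s) ∈ K (j ≫ f) z :=
    H1Sheaf6.stalkMap_germ_val (j ≫ f) U s z hU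
  rw [← cls_germ (j ≫ f) z U hU s hsK]
  have hqK : q ∈ K (j ≫ f) z := Ideal.pow_le_self two_ne_zero hq
  have hlq : (⟨_, hsK⟩ : K (j ≫ f) z) + ⟨q, hqK⟩ = l := by
    refine Subtype.ext ?_
    show X.presheaf.germ U (f (j z)) hU (val (j ≫ f).ker U s) + qv = lv
    rw [hs]
    exact (congrArg (· + qv) hval).trans (sub_add_cancel _ _)
  have e := (cls (j ≫ f) z).map_add ⟨_, hsK⟩ (⟨q, hqK⟩ : K (j ≫ f) z)
  rw [hlq, (cls_eq_zero_iff (j ≫ f) z ⟨q, hqK⟩).2 hq, add_zero] at e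
  exact e.symm

end GrothLib.ConStalk4
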